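import Cfsg.Agent.Lib.Spor.CentU62.Pair

/-!
The commuting graph on the conjugates is connected, so the component is the whole class and generates.
-/

set_option autoImplicit false
set_option maxRecDepth 100000
set_option linter.unusedSectionVars false

namespace Cfsg.Agent.Spor.CentU62

open Cfsg.Agent.Spor.M22U
open Cfsg.Agent.Spor.SpFour (F4)
open Cfsg.Agent.Spor.M22U.InvClasses (T fx Good)

universe u

/-- the triple of the base and the fourth member commute -/
theorem fourth_comm : TupChecks.commOK [0, 1, 2, 6] = true := by decide +kernel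

/-- a further member commuting with a product of three whose product with it is no pair -/
theorem seventh {H : Type u} [Group H] [Finite H] {E : Set H} (hD : Cfsg.IsThreeTranspositionGroup E)
    (hprim : Cfsg.IsPrimitiveUnderConj E) (ht : Cfsg.IsOfTypeM22 H E) {a b c : H} (hl : Good E [a, b, c]) :
    ∃ s ∈ E, Commute (a * b * c) s ∧ fx E (s * (a * b * c)) = 54 := by
  obtain ⟨hn, hmem, hcom⟩ := hl
  simp only [List.nodup_cons, List.mem_cons, List.not_mem_nil, or_false, not_or, List.nodup_nil, and_true,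
    not_false_eq_true] at hn
  obtain ⟨⟨hab, hac⟩, hbc⟩ := hn
  obtain ⟨e, he, hea, heb, hec⟩ := Tuples.normal3 hD hprim ht (hmem a (by simp)) (hmem b (by simp))
    (hmem c (by simp)) hab hac hbc (hcom a (by simp) b (by simp)) (hcom a (by simp) c (by simp))
    (hcom b (by simp) c (by simp))
  obtain ⟨-, hok2, -, hd2⟩ := TupChecks.lists_ok
  obtain ⟨e1, e2, -, -, -, -⟩ := InvClasses.T_names
  have hTD : ∀ i, e (T i) ∈ E := fun i => by
    rw [← he]; exact ⟨_, (Fischer.mem (TupChecks.mw i)).2, rfl⟩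
  have habc : a * b * c = e (T 0 * T 1 * T 2) := by
    rw [map_mul, map_mul, InvClasses.T_zero, e1, e2, hea, heb, hec]
  have hcm : Commute (a * b * c) (e (T 6)) := by
    rw [habc]
    refine Commute.map ?_ e
    exact ((InvClasses.T_comm fourth_comm (by simp) (by simp)).mul_left
      (InvClasses.T_comm fourth_comm (by simp) (by simp))).mul_left (InvClasses.T_comm fourth_comm (by simp) (by simp))
  refine ⟨e (T 6), hTD 6, hcm, ?_⟩
  have h := InvClasses.rel (u := [0, 1, 2, 6]) (v := [7, 8, 9]) (by simp)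
  simp only [List.map_cons, List.map_nil, List.prod_cons, List.prod_nil, mul_one, ← mul_assoc] at h
  rw [← hcm.eq, habc, ← map_mul, h, map_mul, map_mul]
  have hnd := InvClasses.T_ne hd2
  simp only [List.map_cons, List.map_nil, List.nodup_cons, List.mem_cons, List.not_mem_nil, or_false, not_or,
    List.nodup_nil, and_true, not_false_eq_true] at hnd
  exact InvClasses.fx_three hD hprim ht (hTD 7) (hTD 8) (hTD 9) (fun h => hnd.1.1 (e.injective h))
    (fun h => hnd.1.2 (e.injective h)) (fun h => hnd.2 (e.injective h))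
    ((InvClasses.T_comm hok2 (by simp) (by simp)).map e) ((InvClasses.T_comm hok2 (by simp) (by simp)).map e)
    ((InvClasses.T_comm hok2 (by simp) (by simp)).map e)

variable {G : Type u} [Group G]

theorem rev_pow {x y : G} (hx : x * x = 1) (hy : y * y = 1) (j : ℕ) :
    x * (x * y) ^ j * x = ((x * y) ^ j)⁻¹ := by
  have hxi : x⁻¹ = x := inv_eq_of_mul_eq_one_right hx
  have hyi : y⁻¹ = y := inv_eq_of_mul_eq_one_right hy
  have e : x * (x * y) * x⁻¹ = (x * y)⁻¹ := by
    rw [mul_inv_rev, hxi, hyi, ← mul_assoc, hx, one_mul]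
  have h := conj_pow (a := x) (b := x * y) (i := j)
  rw [e, inv_pow, hxi] at h
  exact h.symm

theorem rev_conj {x y : G} (hx : x * x = 1) (hy : y * y = 1) (j : ℕ) :
    (x * y) ^ j * x * ((x * y) ^ j)⁻¹ = (x * y) ^ (2 * j) * x := by
  rw [← rev_pow hx hy j, two_mul, pow_add]
  calc (x * y) ^ j * x * (x * (x * y) ^ j * x) = (x * y) ^ j * (x * x) * (x * y) ^ j * x := by
        simp only [mul_assoc]
    _ = _ := by rw [hx, mul_one]

/-- two involutions whose product has odd order are conjugate inside what they generate -/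
theorem dihedral_conj {x y : G} (hx : x * x = 1) (hy : y * y = 1) (h : Odd (orderOf (x * y))) :
    ∃ g : G, g * x * g⁻¹ = y ∧ ∀ u : G, Commute u x → Commute u y → Commute g u := by
  obtain ⟨k, hk⟩ := h
  refine ⟨(x * y) ^ k, ?_, fun u h1 h2 => (((h1.mul_right h2).symm).pow_left k)⟩
  have hm : (x * y) ^ (2 * k) = (x * y)⁻¹ := by
    refine eq_inv_of_mul_eq_one_left ?_
    rw [← pow_succ, ← hk, pow_orderOf_eq_one]
  rw [rev_conj hx hy, hm, mul_inv_rev, inv_eq_of_mul_eq_one_right hx, inv_eq_of_mul_eq_one_right hy, mul_assoc,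
    hx, mul_one]

/-- two involutions whose product has even order are centralised by an involution -/
theorem dihedral_even [Finite G] {x y : G} (hx : x * x = 1) (hy : y * y = 1) (h : ¬ Odd (orderOf (x * y))) :
    ∃ z : G, orderOf z = 2 ∧ Commute z x ∧ Commute z y ∧ (IsConj x (x * z) ∨ IsConj y (x * z)) := by
  obtain ⟨k, hk⟩ := Nat.not_odd_iff_even.mp h
  have hkpos : 0 < k := by
    have := orderOf_pos (x * y)
    omega
  have hz2 : (x * y) ^ k * (x * y) ^ k = 1 := by rw [← pow_add, ← hk, pow_orderOf_eq_one]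
  have hz1 : (x * y) ^ k ≠ 1 := fun e => by
    have := Nat.le_of_dvd hkpos (orderOf_dvd_of_pow_eq_one e)
    omega
  have hzx : Commute ((x * y) ^ k) x := by
    have e := rev_pow hx hy k
    rw [inv_eq_of_mul_eq_one_right hz2] at e
    show (x * y) ^ k * x = x * (x * y) ^ k
    nth_rewrite 1 [← e]
    rw [mul_assoc, hx, mul_one]
  have hzy : Commute ((x * y) ^ k) y := by
    have e : y = x * (x * y) := by rw [← mul_assoc, hx, one_mul]
    rw [show Commute ((x * y) ^ k) y ↔ Commute ((x * y) ^ k) (x * (x * y)) by rw [← e]]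
    exact hzx.mul_right ((Commute.refl (x * y)).pow_left k)
  refine ⟨(x * y) ^ k, orderOf_eq_prime (by rw [pow_two]; exact hz2) hz1, hzx, hzy, ?_⟩
  rcases Nat.even_or_odd' k with ⟨j, hj | hj⟩
  · left
    refine isConj_iff.mpr ⟨(x * y) ^ j, ?_⟩
    rw [rev_conj hx hy, ← hzx.eq, hj]
  · right
    refine isConj_iff.mpr ⟨((x * y) ^ j)⁻¹, ?_⟩
    have e : y = x * (x * y) := by rw [← mul_assoc, hx, one_mul]
    rw [inv_inv, hj, pow_succ', two_mul, pow_add, ← rev_pow hx hy j]
    conv_lhs => arg 1; arg 2; rw [e]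
    have hc : Commute ((x * y) ^ j) (x * y) := (Commute.refl _).pow_left j
    calc x * (x * y) ^ j * x * (x * (x * y)) * (x * y) ^ j
        = x * ((x * y) ^ j * (x * y)) * (x * y) ^ j := by
          simp only [mul_assoc]
          rw [← mul_assoc x x, hx, one_mul]
      _ = x * ((x * y) * ((x * y) ^ j * (x * y) ^ j)) := by rw [hc.eq]; simp only [mul_assoc]

variable [Finite G] {D : Set G} (X : Cx D) {d : G} (hd : d ∈ D)
include X hd

/-- an involution of the group of the component commutes with a member -/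
theorem invol_near {x : G} (hx : x ∈ Grp D d) (hx2 : orderOf x = 2) : ∃ z ∈ Delta D d, Commute z x := by
  obtain ⟨u, hu, hux⟩ := Classes.exists_commute (dk_three X.loc hd) (dk_prim X.loc hd)
    (dk_type X.loc hd (X.quot d hd)) (u := (⟨x, hx⟩ : Grp D d)) (by rw [← Subgroup.orderOf_coe]; exact hx2)
  exact ⟨u, hu, congrArg Subtype.val hux.eq⟩

theorem member_of_grp {x : G} (hx : x ∈ Grp D d) (hxD : x ∈ D) : x ∈ Delta D d := by
  obtain ⟨z, hz, hzx⟩ := invol_near X hd hx (X.loc.ord x hxD)
  exact step_mem hd hz hxD hzx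

/-- the product of two different commuting members is no member -/
theorem pair_out {e : G} (he : e ∈ nset D d) : d * e ∉ D := by
  intro h
  have hc : Commute d (d * e) := (Commute.refl d).mul_right he.2.2
  have hm := step_mem hd d_mem h hc
  have hm' := step_mem hd d_mem he.1 he.2.2
  have h1 := InvClasses.fx_one (dk_three X.loc hd) (dk_prim X.loc hd) (dk_type X.loc hd (X.quot d hd))
    (a := dd D d * ⟨e, Subgroup.subset_closure hm'⟩) hm
  rw [InvClasses.fx_two (dk_three X.loc hd) (dk_prim X.loc hd) (dk_type X.loc hd (X.quot d hd))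
    (show dd D d ∈ DK D d from d_mem) (show (⟨e, Subgroup.subset_closure hm'⟩ : Grp D d) ∈ DK D d from hm')
    (fun h' => he.2.1 (congrArg Subtype.val h').symm) (Subtype.ext he.2.2.eq)] at h1
  omega

/-- outside the component the products have odd order -/
theorem odd_out {y : G} (hy : y ∈ D) (hyn : y ∉ Delta D d) : Odd (orderOf (d * y)) := by
  by_contra hodd
  obtain ⟨z, hz, hzd, hzy, hconj⟩ := dihedral_even (sq1 X hd hd) (sq1 X hd hy) hodd
  have hD : d * z ∈ D := by
    rcases hconj with h | h <;> obtain ⟨g, hg⟩ := isConj_iff.mp h <;> rw [← hg]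
    exacts [X.loc.conj g d hd, X.loc.conj g y hy]
  have hcz : Commute d (d * z) := (Commute.refl d).mul_right hzd.symm
  have hz' : z = d * (d * z) := by rw [← mul_assoc, sq1 X hd hd, one_mul]
  have ha : d * z ∈ nset D d := ⟨hD, fun h => by
    rw [mul_eq_left] at h
    rw [h, orderOf_one] at hz
    omega, hcz⟩
  have hyK : y ∈ Grp D d := cent_pair X hd ha (hz' ▸ hzy.symm)
  exact hyn (member_of_grp X hd hyK hy)

/-- every member lies in the component -/
theorem delta_all {y : G} (hy : y ∈ D) : y ∈ Delta D d := by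
  by_contra hyn
  have hne : ∀ x, x ∈ Delta D d → x ∈ Delta D y → False := fun x h1 h2 =>
    hyn (by rw [← delta_symm h1, delta_symm h2]; exact d_mem)
  obtain ⟨C⟩ := X.loc.coord y hy
  obtain ⟨heD, hey, hye⟩ := mb_mem C (gpt_lt (show 0 < 8 by norm_num))
  set e := mb C (gpt 0)
  have he : e ∈ nset D y := ⟨heD, hey, hye⟩
  set w := y * e with hw
  have hwD : w ∉ D := pair_out X hy he
  have hw2 : w * w = 1 := (w_facts X hy he).1
  have hwo : orderOf w = 2 := orderOf_eq_prime (by rw [pow_two]; exact hw2) (w_facts X hy he).2.1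
  have hodd : ¬ Odd (orderOf (d * w)) := fun h => by
    obtain ⟨g, hg, -⟩ := dihedral_conj (sq1 X hd hd) hw2 h
    exact hwD (hg ▸ X.loc.conj g d hd)
  obtain ⟨u, hu2, hud, huw, -⟩ := dihedral_even (sq1 X hd hd) hw2 hodd
  have huK : u ∈ Grp D d :=
    cent_le X.loc hd d_mem (Subgroup.mem_centralizer_singleton_iff.mpr hud.eq)
  have huK' : u ∈ Grp D y := cent_pair X hy he huw
  set U : Grp D d := ⟨u, huK⟩
  have h3 := dk_three X.loc hd
  have hp := dk_prim X.loc hd
  have ht := dk_type X.loc hd (X.quot d hd)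
  obtain ⟨l, hl, h1, h3l, hprod⟩ := InvClasses.exists_good h3 hp ht (x := U)
    (by rw [← Subgroup.orderOf_coe]; exact hu2)
  obtain ⟨hn, hmem, hcom⟩ := hl
  match l, h1, h3l with
  | [a], _, _ =>
    simp only [List.prod_cons, List.prod_nil, mul_one] at hprod
    have hua : u = (a : G) := congrArg Subtype.val hprod.symm
    have haΔ : u ∈ Delta D d := hua ▸ hmem a (by simp)
    exact hne u haΔ (member_of_grp X hy huK' (delta_sub hd haΔ))
  | [a, b], _, _ =>
    simp only [List.prod_cons, List.prod_nil, mul_one] at hprod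
    have hua : u = (a : G) * (b : G) := congrArg Subtype.val hprod.symm
    have haΔ : (a : G) ∈ Delta D d := hmem a (by simp)
    have haD := delta_sub hd haΔ
    have hb : (b : G) ∈ nset D (a : G) := ⟨delta_sub hd (hmem b (by simp)),
      fun h => (by simpa using hn : a ≠ b) (Subtype.ext h).symm,
      congrArg Subtype.val (hcom a (by simp) b (by simp)).eq⟩
    have hwK : w ∈ Grp D d := by
      have h := cent_pair X haD hb (hua ▸ huw.symm)
      rwa [Grp, delta_symm haΔ] at h
    obtain ⟨x, hx, hxw⟩ := invol_near X hd hwK hwo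
    have hxK' : x ∈ Grp D y := cent_pair X hy he hxw
    exact hne x hx (member_of_grp X hy hxK' (delta_sub hd hx))
  | [a, b, c], _, _ =>
    simp only [List.prod_cons, List.prod_nil, mul_one, ← mul_assoc] at hprod
    obtain ⟨s, hs, hcs, hfs⟩ := seventh h3 hp ht ⟨hn, hmem, hcom⟩
    obtain ⟨z, hz, hzu⟩ := invol_near X hy huK' hu2
    have move : ∀ x ∈ Delta D d, Commute x u → ∃ g : G, g * x * g⁻¹ = z ∧ Commute g u := by
      intro x hx hxu
      have hxD := delta_sub hd hx
      have hzn : z ∉ Delta D x := fun h => hne z (delta_symm hx ▸ h) hz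
      obtain ⟨g, hg, hgc⟩ := dihedral_conj (sq1 X hd hxD) (sq1 X hd (delta_sub hy hz))
        (odd_out X hxD (delta_sub hy hz) hzn)
      exact ⟨g, hg, hgc u hxu.symm hzu.symm⟩
    have hau : Commute a U := by
      rw [← hprod]
      exact ((Commute.refl a).mul_right (hcom a (by simp) b (by simp))).mul_right (hcom a (by simp) c (by simp))
    obtain ⟨g1, hg1, hc1⟩ := move a (hmem a (by simp)) (congrArg Subtype.val hau.eq)
    obtain ⟨g2, hg2, hc2⟩ := move s hs (congrArg Subtype.val (hprod ▸ hcs.symm : Commute s U).eq)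
    have hga : g2⁻¹ * g1 * a * (g2⁻¹ * g1)⁻¹ = (s : G) := by
      calc _ = g2⁻¹ * (g1 * a * g1⁻¹) * g2 := by group
        _ = g2⁻¹ * (g2 * s * g2⁻¹) * g2 := by rw [hg1, hg2]
        _ = s := by group
    have haΔ : (a : G) ∈ Delta D d := hmem a (by simp)
    have hgK : g2⁻¹ * g1 ∈ Grp D d := by
      have h := mem_grp_of_conj X.loc (delta_sub hd haΔ) (g := g2⁻¹ * g1)
        (by rw [hga, delta_symm haΔ]; exact hs)
      rwa [Grp, delta_symm haΔ] at h
    have hgu : (g2⁻¹ * g1) * u * (g2⁻¹ * g1)⁻¹ = u := by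
      rw [((hc2.inv_left).mul_left hc1).eq, mul_inv_cancel_right]
    have hfa : fx (DK D d) (a * U) = 182 := by
      have ha2 : a * a = 1 := Spor.mul_self_of_order_two (h3.1.1 a (hmem a (by simp)))
      rw [← hprod, ← mul_assoc, ← mul_assoc, ha2, one_mul]
      simp only [List.nodup_cons, List.mem_cons, List.not_mem_nil, or_false, not_or, List.nodup_nil, and_true,
        not_false_eq_true] at hn
      exact InvClasses.fx_two h3 hp ht (hmem b (by simp)) (hmem c (by simp)) hn.2 (hcom b (by simp) c (by simp))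
    have hconj : (⟨g2⁻¹ * g1, hgK⟩ : Grp D d) * (a * U) * (⟨g2⁻¹ * g1, hgK⟩ : Grp D d)⁻¹ = s * U := by
      apply Subtype.ext
      show (g2⁻¹ * g1) * ((a : G) * u) * (g2⁻¹ * g1)⁻¹ = (s : G) * u
      calc _ = ((g2⁻¹ * g1) * (a : G) * (g2⁻¹ * g1)⁻¹) * ((g2⁻¹ * g1) * u * (g2⁻¹ * g1)⁻¹) := by group
        _ = _ := by rw [hga, hgu]
    rw [hprod] at hfs
    rw [← hconj, InvClasses.fx_conj h3, hfa] at hfs
    omega

theorem delta_eq : Delta D d = D := Set.Subset.antisymm (fun _ h => delta_sub hd h) fun _ h => delta_all X hd h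

theorem grp_top : Grp D d = ⊤ :=
  eq_top_iff.mpr fun g _ => mem_grp_of_conj X.loc hd (delta_all X hd (X.loc.conj g d hd))

end Cfsg.Agent.Spor.CentU62
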