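import Cfsg.Agent.Lib.Spor.CentU62.LineChecks

/-!
Checks for the centraliser of a product of two commuting members.
-/

set_option autoImplicit false
set_option maxRecDepth 100000
set_option Elab.async false

namespace Cfsg.Agent.Spor.CentU62

open Cfsg.Agent.Spor.CC Cfsg.Agent.Spor.M22U TDat
open Cfsg.Agent.Spor.M22U.Tuples (p0)

/-- a further point of the standard line separates -/
def sepLineOK (k : ℕ) : Bool := !(orth p0 k && !orth q0 k) || !orth (line.getD 0 0) k

/-- a point is determined up to two by what it sees around the fourth generator -/
def twinOK (y : ℕ) : Bool :=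
  Nat.beq y (gpt 5) || Nat.beq y (tm (gpt 4) (gpt 5)) ||
    (List.range 693).any fun z => orth (gpt 4) z && !(orth (gpt 5) z == orth y z)

/-- two points have a common neighbour -/
def linkOK (y : ℕ) : Bool :=
  orth (gpt 0) y || (List.range 693).any fun z =>
    orth (gpt 0) z && orth z y && !Nat.beq z (gpt 0) && !Nat.beq z y

theorem sep_line0 : rangeOK sepLineOK 0 693 = true := by decide +kernel
theorem twin0 : rangeOK twinOK 0 693 = true := by decide +kernel
theorem link0 : rangeOK linkOK 0 693 = true := by decide +kernel

end Cfsg.Agent.Spor.CentU62
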