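import Cfsg.Agent.Lib.Spor.CentU62.Checks
import Cfsg.Agent.Lib.Spor.M22UTuples

/-!
Checks on the standard line.
-/

set_option autoImplicit false
set_option maxRecDepth 100000
set_option Elab.async false

namespace Cfsg.Agent.Spor.CentU62

open Cfsg.Agent.Spor.CC Cfsg.Agent.Spor.M22U TDat
open Cfsg.Agent.Spor.M22U.Tuples (p0)

/-- the standard line -/
def line0 : List ℕ := [p0, q0, line.getD 0 0, line.getD 1 0, line.getD 2 0]

/-- a point determined by the standard pair lies on the standard line -/
def lineOK (l : ℕ) : Bool :=
  memN l line0 || (List.range 693).any fun z => orth z p0 && orth z q0 && !orth z l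

/-- the five conjugations of the standard line compose to the identity -/
def fiveOK (z : ℕ) : Bool :=
  Nat.beq (tm p0 (tm q0 (tm (line.getD 0 0) (tm (line.getD 1 0) (tm (line.getD 2 0) z))))) z

/-- four distinct points do not compose to the identity -/
def fourOK (r : ℕ) : Bool :=
  !(orth p0 r && orth q0 r) || Nat.beq r p0 || Nat.beq r q0 || (List.range 693).all fun s =>
    !(orth p0 s && orth q0 s) || Nat.beq s p0 || Nat.beq s q0 || Nat.beq s r ||
      (List.range 693).any fun z => !Nat.beq (tm p0 (tm q0 (tm r (tm s z)))) z

theorem line_ok0 : rangeOK lineOK 0 693 = true := by decide +kernel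

theorem five_ok0 : rangeOK fiveOK 0 693 = true := by decide +kernel

theorem four_ok0 : rangeOK fourOK 0 693 = true := by decide +kernel

end Cfsg.Agent.Spor.CentU62
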