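import Cfsg.Agent.Lib.Spor.CentU62.Loc
import Cfsg.Agent.Lib.Spor.CentU62.LineChecks
import Cfsg.Agent.Lib.Spor.M22UTuples

/-!
Working with the coordinates at one member; five members on a line multiply to the member.
-/

set_option autoImplicit false
set_option maxRecDepth 100000
set_option linter.unusedSectionVars false

namespace Cfsg.Agent.Spor.CentU62

open Cfsg.Agent.Small.Unitary Cfsg.Agent.Spor.SpFour
open Cfsg.Agent.Spor.M22U
open Cfsg.Agent.Spor.M22U.Sym (timg Simi)
open Cfsg.Agent.Spor.M22U.Norm (Coord)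
open Cfsg.Agent.Spor.CC (all_range)

/-! ### points -/

theorem cwd_below {x : ℕ} (hx : x < 693) : below 8 (cwd x) = true := by
  obtain ⟨h1, h2, -⟩ := pt_word hx
  exact below_append h2 (below_iff.mpr fun y hy => by
    rcases List.mem_cons.mp hy with rfl | hy
    · exact h1
    · exact below_iff.mp (below_rev h2) y hy)

theorem tm_lt {x y : ℕ} (hx : x < 693) (hy : y < 693) : tm x y < 693 := pev_lt (cwd_below hx) hy

theorem tm_timg {x y : ℕ} (hx : x < 693) (hy : y < 693) : timg x y = tm x y := by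
  obtain ⟨hl, e⟩ := Sym.conj_vec hx hy
  refine Pts.ptr_inj hl (tm_lt hx hy) (e.symm.trans ?_)
  rw [Pts.ptr_word hx]
  exact Pts.pw_conj (cwd_below hx) hy

theorem orth_herm {x y : ℕ} (hx : x < 693) (hy : y < 693) :
    orth x y = true ↔ herm (Pts.gv x) (Pts.gv y) = 0 := by
  rw [← Pts.ptr_commute hx hy, orth, beq_iff]
  show tm x y = y ↔ _
  obtain ⟨hl, e⟩ := Sym.conj_vec hx hy
  rw [tm_timg hx hy] at e hl
  constructor
  · intro h
    rw [h, mul_inv_eq_iff_eq_mul] at e
    exact e
  · intro h
    rw [h.eq, mul_inv_cancel_right] at e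
    exact (Pts.ptr_inj hy hl e).symm

theorem orth_symm {x y : ℕ} (hx : x < 693) (hy : y < 693) : orth x y = orth y x := by
  rw [Bool.eq_iff_iff, orth_herm hx hy, orth_herm hy hx]
  constructor <;> intro h <;> rw [← star_herm, h, star_zero]

theorem orth_refl {x : ℕ} (hx : x < 693) : orth x x = true :=
  (orth_herm hx hx).mpr (Pts.gv_spec hx).2

theorem orth_pev {w : List ℕ} (hw : below 8 w = true) {x y : ℕ} (hx : x < 693) (hy : y < 693) :
    orth (pev w x) (pev w y) = orth x y := by
  rw [Bool.eq_iff_iff, orth_herm (pev_lt hw hx) (pev_lt hw hy), orth_herm hx hy,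
    ← Pts.ptr_commute (pev_lt hw hx) (pev_lt hw hy), ← Pts.ptr_commute hx hy, ← Pts.pw_conj hw hx,
    ← Pts.pw_conj hw hy, Spor.commute_conj_iff]

theorem tm_braid {x y : ℕ} (hx : x < 693) (hy : y < 693) (h : orth x y = false) : tm x y = tm y x := by
  rw [← tm_timg hx hy, ← tm_timg hy hx]
  exact timg_symm fun e => by rw [(orth_herm hx hy).mpr e] at h; exact Bool.noConfusion h

theorem memN_iff {x : ℕ} {L : List ℕ} : memN x L = true ↔ x ∈ L := by
  simp only [memN, List.any_eq_true, beq_iff]
  exact ⟨fun ⟨y, hy, e⟩ => e ▸ hy, fun h => ⟨x, h, rfl⟩⟩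

theorem nodupN_iff : ∀ {L : List ℕ}, nodupN L = true ↔ L.Nodup
  | [] => by simp [nodupN]
  | x :: L => by
    rw [nodupN, Bool.and_eq_true, Bool.not_eq_true', ← Bool.not_eq_true, memN_iff, nodupN_iff,
      List.nodup_cons]

/-- a word as a relabelling of the coordinates -/
noncomputable def wordPerm {w : List ℕ} (hw : below 8 w = true) : Fin 693 ≃ Fin 693 where
  toFun i := ⟨pev w i, pev_lt hw i.2⟩
  invFun i := ⟨pev w.reverse i, pev_lt (below_rev hw) i.2⟩
  left_inv i := Fin.ext (pev_rev hw i.2)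
  right_inv i := Fin.ext (pev_rev' hw i.2)

theorem tm_pev {w : List ℕ} (hw : below 8 w = true) {x y : ℕ} (hx : x < 693) (hy : y < 693) :
    pev w (tm x y) = tm (pev w x) (pev w y) := by
  have h1 := tm_lt hx hy
  have h2 := pev_lt hw hx
  have h3 := pev_lt hw hy
  refine Pts.ptr_inj (pev_lt hw h1) (tm_lt h2 h3) ?_
  have e1 := (Sym.conj_vec hx hy).2
  have e2 := (Sym.conj_vec h2 h3).2
  rw [tm_timg hx hy] at e1
  rw [tm_timg h2 h3] at e2
  rw [← Pts.pw_conj hw h1, ← e1, ← e2, ← Pts.pw_conj hw hx, ← Pts.pw_conj hw hy]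
  group

universe u
variable {G : Type u} [Group G] {D : Set G} {x : G}

/-- change of coordinates by a word -/
noncomputable def moveW (C : Coord D x) {w : List ℕ} (hw : below 8 w = true) : Coord D x where
  e := C.e.trans (wordPerm hw)
  conj a b c h := by
    show pev w (C.e c) = timg (pev w (C.e a)) (pev w (C.e b))
    rw [tm_timg (pev_lt hw (C.e a).2) (pev_lt hw (C.e b).2), ← tm_pev hw (C.e a).2 (C.e b).2,
      ← tm_timg (C.e a).2 (C.e b).2, C.conj a b c h]
  comm a b := by
    show _ ↔ herm (Pts.gv (pev w (C.e a))) (Pts.gv (pev w (C.e b))) = 0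
    rw [C.comm, ← orth_herm (pev_lt hw (C.e a).2) (pev_lt hw (C.e b).2), orth_pev hw (C.e a).2 (C.e b).2,
      orth_herm (C.e a).2 (C.e b).2]

/-- the member at a point -/
noncomputable def mb (C : Coord D x) (i : ℕ) : G := if h : i < 693 then (C.e.symm ⟨i, h⟩ : G) else 1

variable (C : Coord D x)

theorem mb_mem {i : ℕ} (hi : i < 693) : mb C i ∈ nset D x := by
  rw [mb, dif_pos hi]; exact (C.e.symm _).2

theorem mb_e (y : ↥(nset D x)) : mb C (C.e y) = y := by
  rw [mb, dif_pos (C.e y).2, Fin.eta, Equiv.symm_apply_apply]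

theorem e_mb {i : ℕ} (hi : i < 693) : (C.e ⟨mb C i, mb_mem C hi⟩ : ℕ) = i := by
  have e : (⟨mb C i, mb_mem C hi⟩ : ↥(nset D x)) = C.e.symm ⟨i, hi⟩ :=
    Subtype.ext (by show mb C i = _; rw [mb, dif_pos hi])
  rw [e, Equiv.apply_symm_apply]

theorem mb_surj {y : G} (hy : y ∈ nset D x) : ∃ i < 693, mb C i = y :=
  ⟨_, (C.e ⟨y, hy⟩).2, mb_e C ⟨y, hy⟩⟩

theorem mb_inj {i j : ℕ} (hi : i < 693) (hj : j < 693) (h : mb C i = mb C j) : i = j := by
  rw [← e_mb C hi, ← e_mb C hj]
  exact congrArg (fun z : ↥(nset D x) => (C.e z : ℕ)) (Subtype.ext h)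

theorem mb_comm {i j : ℕ} (hi : i < 693) (hj : j < 693) :
    Commute (mb C i) (mb C j) ↔ orth i j = true := by
  have h := C.comm ⟨mb C i, mb_mem C hi⟩ ⟨mb C j, mb_mem C hj⟩
  rw [e_mb C hi, e_mb C hj] at h
  rw [orth_herm hi hj]
  exact h

theorem mb_conj (L : Loc D) {i j : ℕ} (hi : i < 693) (hj : j < 693) :
    mb C i * mb C j * (mb C i)⁻¹ = mb C (tm i j) := by
  obtain ⟨ha, hax, hxa⟩ := mb_mem C hi
  obtain ⟨hb, hbx, hxb⟩ := mb_mem C hj
  have hm : mb C i * mb C j * (mb C i)⁻¹ ∈ nset D x := by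
    refine ⟨L.conj _ _ hb, fun e => hbx ?_, (hxa.mul_right hxb).mul_right hxa.inv_right⟩
    rw [mul_inv_eq_iff_eq_mul, hxa.eq] at e
    exact mul_left_cancel e
  have h := C.conj ⟨mb C i, mb_mem C hi⟩ ⟨mb C j, mb_mem C hj⟩ ⟨_, hm⟩ rfl
  rw [e_mb C hi, e_mb C hj, tm_timg hi hj] at h
  rw [← h]
  exact (mb_e C ⟨_, hm⟩).symm

theorem mb_sq (L : Loc D) {i : ℕ} (hi : i < 693) : mb C i * mb C i = 1 :=
  Spor.mul_self_of_order_two (L.ord _ (mb_mem C hi).1)

theorem mb_braid (L : Loc D) {i j : ℕ} (hi : i < 693) (hj : j < 693) (h : orth i j = false) :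
    mb C i * mb C j * mb C i = mb C j * mb C i * mb C j := by
  have e1 := mb_conj C L hi hj
  have e2 := mb_conj C L hj hi
  rw [tm_braid hi hj h, ← e2] at e1
  rwa [inv_eq_of_mul_eq_one_right (mb_sq C L hi), inv_eq_of_mul_eq_one_right (mb_sq C L hj)] at e1

/-- the element of a word -/
noncomputable def wordEl (C : Coord D x) (w : List ℕ) : G := (w.map fun j => mb C (gpt j)).prod

theorem wordEl_comm {w : List ℕ} (hw : below 8 w = true) : Commute x (wordEl C w) :=
  Commute.list_prod_right _ _ fun y hy => by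
    obtain ⟨j, hj, rfl⟩ := List.mem_map.mp hy
    exact (mb_mem C (gpt_lt (below_iff.mp hw j hj))).2.2

theorem wordEl_conj (L : Loc D) : ∀ {w : List ℕ}, below 8 w = true → ∀ {i : ℕ}, i < 693 →
    wordEl C w * mb C i * (wordEl C w)⁻¹ = mb C (pev w i)
  | [], _, i, _ => by simp [wordEl, pev]
  | j :: w, hw, i, hi => by
    rw [below_iff] at hw
    have hw' : below 8 w = true := below_iff.mpr fun z hz => hw z (by simp [hz])
    have hj := hw j (by simp)
    have hl := pev_lt hw' hi
    calc wordEl C (j :: w) * mb C i * (wordEl C (j :: w))⁻¹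
        = mb C (gpt j) * (wordEl C w * mb C i * (wordEl C w)⁻¹) * (mb C (gpt j))⁻¹ := by
          simp only [wordEl, List.map_cons, List.prod_cons]; group
      _ = mb C (pev (j :: w) i) := by
          rw [wordEl_conj L hw' hi, mb_conj C L (gpt_lt hj) hl, ← tm_timg (gpt_lt hj) hl,
            Sym.gen_timg hj hl]
          rfl

theorem two_move {a b : ℕ} (ha : a < 693) (hb : b < 693) (hab : orth a b = true) (hne : a ≠ b) :
    ∃ w, below 8 w = true ∧ pev w Tuples.p0 = a ∧ pev w TDat.q0 = b := by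
  obtain ⟨w1, hw1, e1⟩ := Pts.from_first ha
  have hb' := pev_lt (below_rev hw1) hb
  have h1 : pev w1.reverse a = Tuples.p0 := by rw [← e1, pev_rev hw1 (gpt_lt (by norm_num))]
  obtain ⟨w2, hw2, e2, e3⟩ := Tuples.two_word hb' (by rw [← h1, orth_pev (below_rev hw1) ha hb]; exact hab)
    (fun e => hne (pev_inj (below_rev hw1) ha hb (h1.trans e.symm)))
  refine ⟨w1 ++ w2, below_append hw1 hw2, ?_, ?_⟩
  · rw [pev_append, e2]; exact e1
  · rw [pev_append, e3, pev_rev' hw1 hb]

theorem line0_ok : line0.Nodup ∧ line0.length = 5 ∧ (∀ l ∈ line0, l < 693) ∧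
    (∀ a ∈ line0, ∀ b ∈ line0, orth a b = true) := by decide +kernel

theorem four_ne (L : Loc D) {l : List ℕ} (hl : l.length = 4) (hn : l.Nodup) (hlt : ∀ a ∈ l, a < 693)
    (ho : ∀ a ∈ l, ∀ b ∈ l, orth a b = true) (hz : (l.map (mb C)).prod = x) : False := by
  match l, hl with
  | [a, b, c, e], _ =>
    simp only [List.nodup_cons, List.mem_cons, List.not_mem_nil, or_false, not_or, List.nodup_nil,
      and_true, not_false_eq_true] at hn
    obtain ⟨⟨hab, hac, hae⟩, ⟨hbc, hbe⟩, hce⟩ := hn
    have hal := hlt a (by simp)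
    have hbl := hlt b (by simp)
    obtain ⟨w, hw, e1, e2⟩ := two_move hal hbl (ho a (by simp) b (by simp)) hab
    have hr := below_rev hw
    have f1 : pev w.reverse a = Tuples.p0 := by rw [← e1, pev_rev hw Tuples.p0_lt]
    have f2 : pev w.reverse b = TDat.q0 := by rw [← e2, pev_rev hw Tuples.base_ok.1]
    have hcl := hlt c (by simp)
    have hel := hlt e (by simp)
    have hk := all_range (p := fourOK) four_ok0 (Nat.zero_le _)
      (show pev w.reverse c < 0 + 693 by rw [Nat.zero_add]; exact pev_lt hr hcl)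
    have hoc : ∀ {u v : ℕ}, u < 693 → v < 693 → orth u v = true → orth (pev w.reverse u) (pev w.reverse v) = true :=
      fun hu hv h => by rw [orth_pev hr hu hv]; exact h
    have hne : ∀ {u v : ℕ}, u < 693 → v < 693 → u ≠ v → pev w.reverse u ≠ pev w.reverse v :=
      fun hu hv h e => h (pev_inj hr hu hv e)
    simp only [fourOK, Bool.or_eq_true, Bool.not_eq_true', Bool.and_eq_false_iff, beq_iff, List.all_eq_true,
      List.mem_range, List.any_eq_true, ← f1, ← f2, hoc hal hcl (ho a (by simp) c (by simp)),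
      hoc hbl hcl (ho b (by simp) c (by simp))] at hk
    rcases hk with ((h | h) | h) | h
    · rcases h with h | h <;> exact Bool.noConfusion h
    · exact hne hcl hal (Ne.symm hac) h
    · exact hne hcl hbl (Ne.symm hbc) h
    · have hs := h _ (pev_lt hr hel)
      simp only [hoc hal hel (ho a (by simp) e (by simp)), hoc hbl hel (ho b (by simp) e (by simp))] at hs
      rcases hs with (((h | h) | h) | h) | ⟨z, hzl, h⟩
      · rcases h with h | h <;> exact Bool.noConfusion h
      · exact hne hel hal (Ne.symm hae) h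
      · exact hne hel hbl (Ne.symm hbe) h
      · exact hne hel hcl (Ne.symm hce) h
      · have hz' := pev_lt hw hzl
        have key : tm a (tm b (tm c (tm e (pev w z)))) = pev w z := by
          apply mb_inj C (tm_lt hal (tm_lt hbl (tm_lt hcl (tm_lt hel hz')))) hz'
          rw [← mb_conj C L hal (tm_lt hbl (tm_lt hcl (tm_lt hel hz'))),
            ← mb_conj C L hbl (tm_lt hcl (tm_lt hel hz')), ← mb_conj C L hcl (tm_lt hel hz'),
            ← mb_conj C L hel hz']
          simp only [List.map_cons, List.map_nil, List.prod_cons, List.prod_nil, mul_one] at hz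
          calc _ = (mb C a * (mb C b * (mb C c * mb C e))) * mb C (pev w z) *
                (mb C a * (mb C b * (mb C c * mb C e)))⁻¹ := by group
            _ = _ := by rw [hz, (mb_mem C hz').2.2.eq, mul_inv_cancel_right]
        have hx1 := tm_lt hel hz'
        have hx2 := tm_lt hcl hx1
        have hx3 := tm_lt hbl hx2
        have := congrArg (pev w.reverse) key
        rw [tm_pev hr hal hx3, tm_pev hr hbl hx2, tm_pev hr hcl hx1, tm_pev hr hel hz', pev_rev hw hzl] at this
        rw [this, Nat.beq_refl] at h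
        exact Bool.noConfusion h

theorem pev_map_prod (L : Loc D) {w : List ℕ} (hw : below 8 w = true) :
    ∀ {l : List ℕ}, (∀ a ∈ l, a < 693) →
      wordEl C w * (l.map (mb C)).prod * (wordEl C w)⁻¹ = ((l.map (pev w)).map (mb C)).prod
  | [], _ => by simp
  | a :: l, h => by
    simp only [List.map_cons, List.prod_cons]
    rw [← wordEl_conj C L hw (h a (by simp)), ← pev_map_prod L hw fun b hb => h b (by simp [hb])]
    group

/-- five members on a line multiply to the member whose coordinates these are -/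
theorem five_prod (L : Loc D) (hxD : x ∈ D) {l : List ℕ} (hl : line5 l = true)
    (hlt : ∀ a ∈ l, a < 693) : (l.map (mb C)).prod = x := by
  obtain ⟨hn0, hlen0, hlt0, ho0⟩ := line0_ok
  -- the standard one
  have hstd : (line0.map (mb C)).prod = x := by
    set P := (line0.map (mb C)).prod with hP
    have hcx : Commute P x := (Commute.list_prod_right _ _ fun y hy => by
      obtain ⟨i, hi, rfl⟩ := List.mem_map.mp hy
      exact (mb_mem C (hlt0 i hi)).2.2).symm
    have hfix : ∀ z < 693, Commute P (mb C z) := by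
      intro z hz
      have hk := all_range (p := fiveOK) five_ok0 (Nat.zero_le _) (show z < 0 + 693 by omega)
      simp only [fiveOK, beq_iff] at hk
      have m : ∀ a ∈ line0, a < 693 := hlt0
      simp only [line0, List.mem_cons, List.not_mem_nil, or_false, forall_eq_or_imp, forall_eq] at m
      obtain ⟨m0, m1, m2, m3, m4⟩ := m
      have hx1 := tm_lt m4 hz
      have hx2 := tm_lt m3 hx1
      have hx3 := tm_lt m2 hx2
      have hx4 := tm_lt m1 hx3
      refine mul_inv_eq_iff_eq_mul.mp ?_
      conv_rhs => rw [← hk, ← mb_conj C L m0 hx4, ← mb_conj C L m1 hx3, ← mb_conj C L m2 hx2,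
        ← mb_conj C L m3 hx1, ← mb_conj C L m4 hz]
      simp only [hP, line0, List.map_cons, List.map_nil, List.prod_cons, List.prod_nil, mul_one]
      group
    have hcen : ∀ g : G, Commute g x → Commute g P := by
      intro g hg
      have hle : Subgroup.centralizer ({x} : Set G) ≤ Subgroup.centralizer ({P} : Set G) := by
        rw [← L.gen x hxD, Subgroup.closure_le]
        intro y hy
        obtain ⟨i, hi, rfl⟩ := mb_surj C hy
        exact Subgroup.mem_centralizer_singleton_iff.mpr (hfix i hi).symm.eq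
      exact Subgroup.mem_centralizer_singleton_iff.mp
        (hle (Subgroup.mem_centralizer_singleton_iff.mpr hg.eq))
    refine (L.centre x hxD P hcx hcen).resolve_left fun h1 => ?_
    -- product one gives a forbidden relation at the last of the five
    set e := mb C (TDat.line.getD 2 0) with he
    have m := hlt0
    simp only [line0, List.mem_cons, List.not_mem_nil, or_false, forall_eq_or_imp, forall_eq] at m
    obtain ⟨m0, m1, m2, m3, m4⟩ := m
    have heD := (mb_mem C m4).1
    obtain ⟨C'⟩ := L.coord e heD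
    have hin : ∀ a ∈ line0, a ≠ TDat.line.getD 2 0 → mb C a ∈ nset D e := fun a ha hne =>
      ⟨(mb_mem C (hlt0 a ha)).1, fun h => hne (mb_inj C (hlt0 a ha) m4 h),
        (mb_comm C m4 (hlt0 a ha)).mpr (ho0 _ (by simp [line0]) a ha)⟩
    have hd : ∀ a ∈ [Tuples.p0, TDat.q0, TDat.line.getD 0 0, TDat.line.getD 1 0],
        a ∈ line0 ∧ a ≠ TDat.line.getD 2 0 := by decide +kernel
    choose f hflt hfe using fun a : {a // a ∈ [Tuples.p0, TDat.q0, TDat.line.getD 0 0, TDat.line.getD 1 0]} =>
      mb_surj C' (hin a.1 (hd a.1 a.2).1 (hd a.1 a.2).2)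
    set l4 := [Tuples.p0, TDat.q0, TDat.line.getD 0 0, TDat.line.getD 1 0].attach.map f with hl4
    refine four_ne C' L (l := l4) (by simp [hl4]) ?_ ?_ ?_ ?_
    · refine (List.nodup_attach.mpr (by decide +kernel)).map_on fun a _ b _ h => Subtype.ext ?_
      exact mb_inj C (hlt0 _ (hd a.1 a.2).1) (hlt0 _ (hd b.1 b.2).1) (by rw [← hfe a, ← hfe b, h])
    · intro a ha
      obtain ⟨b, -, rfl⟩ := List.mem_map.mp ha
      exact hflt b
    · intro a ha b hb
      obtain ⟨a', -, rfl⟩ := List.mem_map.mp ha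
      obtain ⟨b', -, rfl⟩ := List.mem_map.mp hb
      rw [← mb_comm C' (hflt a') (hflt b'), hfe, hfe, mb_comm C (hlt0 _ (hd a'.1 a'.2).1) (hlt0 _ (hd b'.1 b'.2).1)]
      exact ho0 _ (hd a'.1 a'.2).1 _ (hd b'.1 b'.2).1
    · rw [hl4, List.map_map, show mb C' ∘ f = (mb C) ∘ Subtype.val from funext hfe, ← List.map_map, List.attach_map_subtype_val]
      have h2 : e * e = 1 := mb_sq C L m4
      simp only [hP, line0, List.map_cons, List.map_nil, List.prod_cons, List.prod_nil, mul_one] at h1 ⊢
      rw [← inv_eq_of_mul_eq_one_right h2]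
      apply eq_inv_of_mul_eq_one_left
      rw [← h1, he]
      group
  -- the general one
  simp only [line5, Bool.and_eq_true, beq_iff, nodupN_iff, List.all_eq_true, List.mem_range,
    Bool.or_eq_true, Bool.not_eq_true', Bool.and_eq_false_iff] at hl
  obtain ⟨⟨⟨hlen, hn⟩, ho⟩, hcl⟩ := hl
  have h0 : l.getD 0 0 ∈ l := by rw [List.getD_eq_getElem _ _ (by omega)]; exact List.getElem_mem _
  have h1 : l.getD 1 0 ∈ l := by rw [List.getD_eq_getElem _ _ (by omega)]; exact List.getElem_mem _
  have hne : l.getD 0 0 ≠ l.getD 1 0 := by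
    rw [List.getD_eq_getElem _ _ (by omega : 0 < l.length), List.getD_eq_getElem _ _ (by omega : 1 < l.length)]
    intro e
    have := (List.Nodup.getElem_inj_iff hn).mp e
    omega
  obtain ⟨w, hw, e0, e1⟩ := two_move (hlt _ h0) (hlt _ h1) (ho _ h0 _ h1) hne
  have hr := below_rev hw
  have hsub : ∀ a ∈ l, pev w.reverse a ∈ line0 := by
    intro a ha
    have hk := all_range (p := lineOK) line_ok0 (Nat.zero_le _)
      (show pev w.reverse a < 0 + 693 by rw [Nat.zero_add]; exact pev_lt hr (hlt a ha))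
    simp only [lineOK, Bool.or_eq_true, memN_iff, List.any_eq_true, List.mem_range, Bool.and_eq_true,
      Bool.not_eq_true'] at hk
    rcases hk with h | ⟨z, hz, ⟨hz0, hz1⟩, hz2⟩
    · exact h
    · exfalso
      have hzl := pev_lt hw hz
      have := hcl (pev w z) hzl
      rw [← e0, ← e1, orth_pev hw hz Tuples.p0_lt, orth_pev hw hz Tuples.base_ok.1, hz0, hz1] at this
      rcases this with h | h
      · rcases h with h | h <;> exact Bool.noConfusion h
      · have h' := h a ha
        rw [← pev_rev' hw (hlt a ha), orth_pev hw hz (pev_lt hr (hlt a ha)), hz2] at h'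
        exact Bool.noConfusion h'
  have hnd : (l.map (pev w.reverse)).Nodup :=
    hn.map_on fun a ha b hb h => pev_inj hr (hlt a ha) (hlt b hb) h
  have hperm : (l.map (pev w.reverse)).Perm line0 := by
    refine (hnd.subperm fun y hy => ?_).perm_of_length_le (by rw [List.length_map, hlen, hlen0])
    obtain ⟨a, ha, rfl⟩ := List.mem_map.mp hy
    exact hsub a ha
  have hcommute : ∀ {m : List ℕ}, (∀ a ∈ m, a ∈ line0) →
      (m.map (mb C)).Pairwise Commute := by
    intro m hm
    refine List.pairwise_of_forall_mem_list fun y hy z hz => ?_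
    obtain ⟨a, ha, rfl⟩ := List.mem_map.mp hy
    obtain ⟨b, hb, rfl⟩ := List.mem_map.mp hz
    exact (mb_comm C (hlt0 _ (hm a ha)) (hlt0 _ (hm b hb))).mpr (ho0 _ (hm a ha) _ (hm b hb))
  have hprod : ((l.map (pev w.reverse)).map (mb C)).prod = x := by
    rw [(hperm.map (mb C)).prod_eq' (hcommute fun a ha => hperm.mem_iff.mp ha), hstd]
  have := pev_map_prod C L hw (l := l.map (pev w.reverse)) fun a ha => by
    obtain ⟨b, hb, rfl⟩ := List.mem_map.mp ha
    exact pev_lt hr (hlt b hb)
  rw [hprod, List.map_map (f := pev w.reverse),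
    (List.map_congr_left (fun a ha => pev_rev' hw (hlt a ha)) : l.map (pev w ∘ pev w.reverse) = l.map id),
    List.map_id, (wordEl_comm C hw).symm.eq,
    mul_inv_cancel_right] at this
  exact this.symm

end Cfsg.Agent.Spor.CentU62
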