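import Cfsg.Agent.Lib.Spor.CentU62.Checks

/-!
Degrees in the standard subset.
-/

set_option autoImplicit false
set_option maxRecDepth 100000
set_option Elab.async false

namespace Cfsg.Agent.Spor.CentU62

open Cfsg.Agent.Spor.CC Cfsg.Agent.Spor.M22U

/-- the neighbours of a point in the standard subset -/
def tdeg (b : ℕ) : List ℕ := (List.range 693).filter fun z => inT0 z && orth b z && !Nat.beq z b

theorem tdeg_ok : nb0.all (fun b => Nat.beq (tdeg b).length 45) = true := by decide +kernel

theorem five0_facts : (∀ i < 5, five0.getD i 0 < 693) ∧ five0.length = 5 ∧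
    orth (gpt 0) (gpt 2) = true ∧ orth (gpt 0) (gpt 3) = true ∧ orth (gpt 1) (gpt 3) = true ∧
    orth (gpt 0) (gpt 1) = false ∧ orth (gpt 1) (gpt 2) = false ∧ orth (gpt 2) (gpt 3) = false ∧
    orth (gpt 0) (gpt 6) = false ∧ orth (gpt 1) (gpt 6) = true ∧ orth (gpt 2) (gpt 6) = false ∧
    orth (gpt 3) (gpt 6) = true ∧ orth (gpt 5) (gpt 6) = true ∧ orth (gpt 4) (gpt 6) = true ∧
    inT0 (gpt 5) = true := by decide +kernel

end Cfsg.Agent.Spor.CentU62
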