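import Cfsg.Agent.Lib.Spor.CentU62.Normal
import Cfsg.Agent.Lib.Spor.CentU62.DegCheck

/-!
The members commuting with two members which do not commute form the standard subset in suitable
coordinates.
-/

set_option autoImplicit false
set_option maxRecDepth 100000
set_option linter.unusedSectionVars false

namespace Cfsg.Agent.Spor.CentU62

open Cfsg.Agent.Small.Unitary Cfsg.Agent.Spor.SpFour
open Cfsg.Agent.Spor.M22U
open Cfsg.Agent.Spor.M22U.Norm (Coord)
open Cfsg.Agent.Spor.CC (all_range)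

universe u
variable {G : Type u} [Group G] {D : Set G}

theorem gev_prefix : ∀ (s : List (ℕ × ℕ)) (l : List G), l <+: s.foldl gStep l
  | [], _ => List.prefix_rfl
  | p :: s, l => (List.prefix_append l _).trans (gev_prefix s (gStep l p))

theorem five_nodup {five : List G} (h : (gev five).Nodup) : five.Nodup :=
  h.sublist (gev_prefix Dat.slp five).sublist

/-- six members in a path are moved onto the standard ones -/
theorem move_six {d : G} (C : Coord D d) (g : ℕ → ↥(nset D d))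
    (hpat : ∀ k < 6, ∀ l < 6, orth (C.e (g k)) (C.e (g l)) = true ↔ ¬(k + 1 = l ∨ l + 1 = k)) :
    ∃ C' : Coord D d, ∀ k < 6, (C'.e (g k) : ℕ) = gpt k := by
  obtain ⟨S, hS, -⟩ := Sym.exists_simi (fun k => (C.e (g k) : ℕ)) (fun k _ => (C.e (g k)).2)
    (fun k hk l hl => by rw [← orth_herm (C.e (g k)).2 (C.e (g l)).2]; exact hpat k hk l hl)
  exact ⟨C.move S, fun k hk => hS k hk⟩

theorem five_list {α : Type*} (def0 : α) : ∀ {l : List α}, l.length = 5 →
    [l.getD 0 def0, l.getD 1 def0, l.getD 2 def0, l.getD 3 def0, l.getD 4 def0] = l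
  | [_, _, _, _, _], _ => rfl

theorem path_pattern {s0 s1 s2 s3 q a : ℕ} (l0 : s0 < 693) (l1 : s1 < 693) (l2 : s2 < 693) (l3 : s3 < 693)
    (lq : q < 693) (la : a < 693) (p01 : orth s0 s1 = false) (p02 : orth s0 s2 = true) (p03 : orth s0 s3 = true)
    (p12 : orth s1 s2 = false) (p13 : orth s1 s3 = true) (p23 : orth s2 s3 = false)
    (p0a : orth s0 a = true) (p1a : orth s1 a = true) (p2a : orth s2 a = true) (p3a : orth s3 a = true)
    (p0q : orth s0 q = true) (p1q : orth s1 q = true) (p2q : orth s2 q = true) (p3q : orth s3 q = false)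
    (paq : orth a q = false) :
    ∀ k < 6, ∀ l < 6, orth ([s0, s1, s2, s3, q, a].getD k 0) ([s0, s1, s2, s3, q, a].getD l 0) = true ↔
      ¬(k + 1 = l ∨ l + 1 = k) := by
  have p10 := (orth_symm l1 l0).trans p01
  have p20 := (orth_symm l2 l0).trans p02
  have p30 := (orth_symm l3 l0).trans p03
  have p21 := (orth_symm l2 l1).trans p12
  have p31 := (orth_symm l3 l1).trans p13
  have p32 := (orth_symm l3 l2).trans p23
  have pa0 := (orth_symm la l0).trans p0a
  have pa1 := (orth_symm la l1).trans p1a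
  have pa2 := (orth_symm la l2).trans p2a
  have pa3 := (orth_symm la l3).trans p3a
  have pq0 := (orth_symm lq l0).trans p0q
  have pq1 := (orth_symm lq l1).trans p1q
  have pq2 := (orth_symm lq l2).trans p2q
  have pq3 := (orth_symm lq l3).trans p3q
  have pqa := (orth_symm lq la).trans paq
  intro k hk l hl
  interval_cases k <;> interval_cases l <;>
    simp [orth_refl l0, orth_refl l1, orth_refl l2, orth_refl l3, orth_refl lq, orth_refl la, p01, p02, p03,
      p12, p13, p23, p0a, p1a, p2a, p3a, p0q, p1q, p2q, p3q, paq, p10, p20, p30, p21, p31, p32, pa0, pa1, pa2,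
      pa3, pq0, pq1, pq2, pq3, pqa]

/-- coordinates in which a and the common neighbours are standard -/
theorem normal_near (L : Loc D) {d a x : G} (hd : d ∈ D) (hx : x ∈ D)
    (ha : a ∈ nset D d ∩ nset D x) (hnc : ¬ Commute d x) :
    ∃ C : Coord D d, mb C (gpt 5) = a ∧ ∀ y, y ∈ common D d a x ↔ ∃ i ∈ nb0, mb C i = y := by
  obtain ⟨five, h5, hnd, hlen45, hmem, hpat, hprod⟩ := neighbours L hd hx ha hnc
  have hfn := five_nodup hnd
  have hfm : ∀ i < 5, five.getD i 1 ∈ common D d a x := fun i hi => by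
    rw [← hmem, List.getD_eq_getElem _ _ (by omega)]
    exact (gev_prefix Dat.slp five).subset (List.getElem_mem _)
  let f : ℕ → ↥(nset D d) := fun i =>
    if h : i < 5 then ⟨five.getD i 1, (hfm i h).1.1⟩ else ⟨a, ha.1⟩
  have hf : ∀ i, i < 5 → (f i : G) = five.getD i 1 := fun i hi => by simp only [f, dif_pos hi]
  have hfa : (f 5 : G) = a := rfl
  obtain ⟨hlt0, -, q02, q03, q13, q01, q12, q23, q06, q16, q26, q36, q56, q46, hT5⟩ := five0_facts
  obtain ⟨C0⟩ := L.coord d hd
  -- relations in any coordinates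
  have hor : ∀ (C : Coord D d), ∀ i < 5, ∀ k < 5,
      orth (C.e (f i)) (C.e (f k)) = orth (five0.getD i 0) (five0.getD k 0) := fun C i hi k hk => by
    rw [Bool.eq_iff_iff, orth_herm (C.e (f i)).2 (C.e (f k)).2, ← C.comm, hf i hi, hf k hk]
    exact hpat i hi k hk
  have hoa : ∀ (C : Coord D d), ∀ i < 5,
      orth (C.e (f i)) (C.e (f 5)) = true ∧ orth (C.e (f 5)) (C.e (f i)) = true := fun C i hi => by
    have : Commute a (f i : G) := by rw [hf i hi]; exact (hfm i hi).2.2
    constructor <;> rw [orth_herm (C.e _).2 (C.e _).2, ← C.comm, hfa]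
    exacts [this.symm, this]
  -- a sixth point completes a path
  have step : ∀ (C : Coord D d) (q : ℕ), q < 693 → orth (C.e (f 0)) q = true → orth (C.e (f 1)) q = true →
      orth (C.e (f 2)) q = true → orth (C.e (f 3)) q = false → orth (C.e (f 5)) q = false →
      ∃ C' : Coord D d, (∀ i < 4, (C'.e (f i) : ℕ) = gpt i) ∧ (C'.e (f 5) : ℕ) = gpt 5 ∧
        ∀ hq' : q < 693, (C'.e ⟨mb C q, mb_mem C hq'⟩ : ℕ) = gpt 4 := by
    intro C q hq o0 o1 o2 o3 o5
    let g : ℕ → ↥(nset D d) := fun k => [f 0, f 1, f 2, f 3, ⟨mb C q, mb_mem C hq⟩, f 5].getD k (f 5)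
    have hg : ∀ k < 6, (C.e (g k) : ℕ) =
        [(C.e (f 0) : ℕ), (C.e (f 1) : ℕ), (C.e (f 2) : ℕ), (C.e (f 3) : ℕ), q, (C.e (f 5) : ℕ)].getD k 0 := by
      intro k hk
      interval_cases k
      all_goals first | rfl | exact e_mb C hq
    obtain ⟨C', hC'⟩ := move_six C g (fun k hk l hl => by
      rw [hg k hk, hg l hl]
      exact path_pattern (C.e (f 0)).2 (C.e (f 1)).2 (C.e (f 2)).2 (C.e (f 3)).2 hq (C.e (f 5)).2
        ((hor C 0 (by norm_num) 1 (by norm_num)).trans q01) ((hor C 0 (by norm_num) 2 (by norm_num)).trans q02)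
        ((hor C 0 (by norm_num) 3 (by norm_num)).trans q03) ((hor C 1 (by norm_num) 2 (by norm_num)).trans q12)
        ((hor C 1 (by norm_num) 3 (by norm_num)).trans q13) ((hor C 2 (by norm_num) 3 (by norm_num)).trans q23)
        (hoa C 0 (by norm_num)).1 (hoa C 1 (by norm_num)).1 (hoa C 2 (by norm_num)).1 (hoa C 3 (by norm_num)).1
        o0 o1 o2 o3 o5 k hk l hl)
    refine ⟨C', fun i hi => ?_, ?_, ?_⟩
    · have h := hC' i (by omega)
      interval_cases i <;> exact h
    · exact hC' 5 (by norm_num)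
    · intro _; exact hC' 4 (by norm_num)
  obtain ⟨q, hq, o0, o1, o2, o3, o5⟩ := sixth (C0.e (f 0)).2 (C0.e (f 1)).2 (C0.e (f 2)).2 (C0.e (f 3)).2
    (C0.e (f 5)).2 ((hor C0 0 (by norm_num) 2 (by norm_num)).trans q02)
    ((hor C0 0 (by norm_num) 3 (by norm_num)).trans q03) ((hor C0 1 (by norm_num) 3 (by norm_num)).trans q13)
    ((hor C0 0 (by norm_num) 1 (by norm_num)).trans q01) ((hor C0 1 (by norm_num) 2 (by norm_num)).trans q12)
    ((hor C0 2 (by norm_num) 3 (by norm_num)).trans q23)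
    (hoa C0 0 (by norm_num)).1 (hoa C0 1 (by norm_num)).1 (hoa C0 2 (by norm_num)).1 (hoa C0 3 (by norm_num)).1
  obtain ⟨C1, h1, h1a, -⟩ := step C0 q hq o0 o1 o2 o3 o5
  -- the fifth member
  set x6 := (C1.e (f 4) : ℕ) with hx6
  have hx6l : x6 < 693 := (C1.e (f 4)).2
  have hfive : ∀ (C : Coord D d), (∀ i < 4, (C.e (f i) : ℕ) = gpt i) →
      ([gpt 0, gpt 1, gpt 2, gpt 3, (C.e (f 4) : ℕ)].map (mb C)) = five := by
    intro C hC
    have e : ∀ i, i < 5 → mb C (C.e (f i)) = five.getD i 1 := fun i hi => (mb_e C (f i)).trans (hf i hi)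
    rw [← hC 0 (by norm_num), ← hC 1 (by norm_num), ← hC 2 (by norm_num), ← hC 3 (by norm_num)]
    simp only [List.map_cons, List.map_nil, e 0 (by norm_num), e 1 (by norm_num), e 2 (by norm_num),
      e 3 (by norm_num), e 4 (by norm_num)]
    exact five_list 1 h5
  have hne1 : ∀ (C : Coord D d), (∀ i < 4, (C.e (f i) : ℕ) = gpt i) → (C.e (f 4) : ℕ) ≠ gpt 1 := by
    intro C hC h
    rw [← hC 1 (by norm_num)] at h
    have e := congrArg Subtype.val (C.e.injective (Fin.ext h))
    rw [hf 4 (by norm_num), hf 1 (by norm_num), List.getD_eq_getElem _ _ (by omega : 4 < five.length),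
      List.getD_eq_getElem _ _ (by omega : 1 < five.length)] at e
    exact absurd (hfn.getElem_inj_iff.mp e) (by norm_num)
  have hk := all_range (p := candOK2) candB0 (Nat.zero_le _) (show x6 < 0 + 693 by omega)
  have hpt : pattOK x6 = true := by
    simp only [pattOK, Bool.and_eq_true, Bool.not_eq_true']
    rw [← h1 0 (by norm_num), ← h1 1 (by norm_num), ← h1 2 (by norm_num), ← h1 3 (by norm_num), ← h1a, hx6]
    exact ⟨⟨⟨⟨(hor C1 0 (by norm_num) 4 (by norm_num)).trans q06,
      (hor C1 1 (by norm_num) 4 (by norm_num)).trans q16⟩, (hor C1 2 (by norm_num) 4 (by norm_num)).trans q26⟩,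
      (hor C1 3 (by norm_num) 4 (by norm_num)).trans q36⟩, (hoa C1 4 (by norm_num)).2⟩
  have hl1 : ∀ u ∈ [gpt 0, gpt 1, gpt 2, gpt 3, x6], u < 693 := by
    simp only [List.mem_cons, List.not_mem_nil, or_false, forall_eq_or_imp, forall_eq]
    exact ⟨gpt_lt (by norm_num), gpt_lt (by norm_num), gpt_lt (by norm_num), gpt_lt (by norm_num), hx6l⟩
  obtain ⟨hlt, hlen, hmap⟩ := ev_spec C1 L (five := [gpt 0, gpt 1, gpt 2, gpt 3, x6]) rfl hl1
  rw [hfive C1 h1] at hmap
  simp only [candOK2, hpt, Bool.not_true, Bool.false_or, Bool.or_eq_true, beq_iff, Bool.not_eq_true'] at hk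
  rcases hk with ((h | h) | h) | h
  · exact absurd h (hne1 C1 h1)
  · exfalso
    have hn : (evL [gpt 0, gpt 1, gpt 2, gpt 3, x6]).Nodup := List.Nodup.of_map (mb C1) (hmap ▸ hnd)
    rw [nodupN_iff.mpr hn] at h
    exact Bool.noConfusion h
  · exfalso
    have hp := five_prod C1 L hd h fun u hu => hlt u (pick_mem hlen u hu)
    rw [pick_map C1 hlen, hmap, hprod] at hp
    exact ha.1.2.1 hp
  · simp only [List.any_eq_true, List.mem_range, Bool.and_eq_true, Bool.not_eq_true'] at h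
    obtain ⟨q', hq', ⟨⟨⟨⟨r0, r1⟩, r2⟩, r3⟩, r5⟩, r6⟩ := h
    obtain ⟨C2, h2, h2a, h24⟩ := step C1 q' hq' (by rw [h1 0 (by norm_num)]; exact r0)
      (by rw [h1 1 (by norm_num)]; exact r1) (by rw [h1 2 (by norm_num)]; exact r2)
      (by rw [h1 3 (by norm_num)]; exact r3) (by rw [h1a]; exact r5)
    have h46 : orth (gpt 4) (C2.e (f 4)) = true := by
      rw [← h24 hq', orth_herm (C2.e _).2 (C2.e _).2, ← C2.comm]
      show Commute (mb C1 q') (f 4 : G)
      rw [← mb_e C1 (f 4)]
      exact (mb_comm C1 hq' hx6l).mpr r6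
    have hpat6 : ∀ k < 6, herm (Pts.gv (gpt k)) (Pts.gv (C2.e (f 4) : ℕ)) = 0 ↔
        herm (Pts.gv (gpt k)) (Pts.gv (gpt 6)) = 0 := by
      intro k hk
      rw [← orth_herm (gpt_lt (by omega)) (C2.e (f 4)).2, ← orth_herm (gpt_lt (by omega)) (gpt_lt (by norm_num))]
      interval_cases k
      · rw [← h2 0 (by norm_num), hor C2 0 (by norm_num) 4 (by norm_num), h2 0 (by norm_num)]; rfl
      · rw [← h2 1 (by norm_num), hor C2 1 (by norm_num) 4 (by norm_num), h2 1 (by norm_num)]; rfl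
      · rw [← h2 2 (by norm_num), hor C2 2 (by norm_num) 4 (by norm_num), h2 2 (by norm_num)]; rfl
      · rw [← h2 3 (by norm_num), hor C2 3 (by norm_num) 4 (by norm_num), h2 3 (by norm_num)]; rfl
      · simp [h46, q46]
      · rw [← h2a, (hoa C2 4 (by norm_num)).2, h2a, q56]
    obtain ⟨C3, h3, h3a⟩ : ∃ C3 : Coord D d, (∀ i < 5, (C3.e (f i) : ℕ) = five0.getD i 0) ∧
        (C3.e (f 5) : ℕ) = gpt 5 := by
      rcases Sym.seventh (C2.e (f 4)).2 hpat6 with h | h | h
      · exact absurd h (hne1 C2 h2)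
      · refine ⟨C2, fun i hi => ?_, h2a⟩
        interval_cases i
        exacts [h2 0 (by norm_num), h2 1 (by norm_num), h2 2 (by norm_num), h2 3 (by norm_num), h]
      · refine ⟨C2.move Sym.conjMap, fun i hi => ?_, ?_⟩
        · show Sym.conjMap.P (C2.e (f i)) = _
          interval_cases i
          · rw [h2 0 (by norm_num)]; exact Sym.conj_ok.1 0 (by norm_num)
          · rw [h2 1 (by norm_num)]; exact Sym.conj_ok.1 1 (by norm_num)
          · rw [h2 2 (by norm_num)]; exact Sym.conj_ok.1 2 (by norm_num)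
          · rw [h2 3 (by norm_num)]; exact Sym.conj_ok.1 3 (by norm_num)
          · rw [h]; exact Sym.conj_ok.2
        · show Sym.conjMap.P (C2.e (f 5)) = _
          rw [h2a]; exact Sym.conj_ok.1 5 (by norm_num)
    have e5 : five0.map (mb C3) = five := by
      rw [← hfive C3 (fun i hi => by
        rw [h3 i (by omega)]
        interval_cases i <;> rfl), h3 4 (by norm_num)]
      rfl
    obtain ⟨-, -, hm0⟩ := ev_spec C3 L (five := five0) rfl (fun u hu => by
      obtain ⟨n, hn, rfl⟩ := List.getElem_of_mem hu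
      rw [← List.getD_eq_getElem _ 0 hn]
      exact hlt0 n hn)
    rw [e5] at hm0
    refine ⟨C3, ?_, fun y => ?_⟩
    · rw [← h3a]; exact (mb_e C3 (f 5)).trans hfa
    · rw [← hmem, ← hm0, List.mem_map]; rfl

/-- coordinates in which all members commuting with both are standard -/
theorem normal (L : Loc D) {d a x : G} (hd : d ∈ D) (hx : x ∈ D)
    (ha : a ∈ nset D d ∩ nset D x) (hnc : ¬ Commute d x) :
    ∃ C : Coord D d, mb C (gpt 5) = a ∧ ∀ i < 693, mb C i ∈ nset D x ↔ inT0 i = true := by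
  obtain ⟨C, hCa, hcom⟩ := normal_near L hd hx ha hnc
  have hg5 : gpt 5 < 693 := gpt_lt (by norm_num)
  have hnb : ∀ b ∈ nb0, b < 693 ∧ inT0 b = true ∧ orth (gpt 5) b = true ∧ b ≠ gpt 5 := by
    intro b hb
    have h := List.all_eq_true.mp nb0_ok.2.1 b hb
    simp only [Bool.and_eq_true, blt_iff, Bool.not_eq_true'] at h
    exact ⟨h.1.1.1, h.1.1.2, h.1.2, fun e => by rw [e, Nat.beq_refl] at h; exact Bool.noConfusion h.2⟩
  have hbS : ∀ b ∈ nb0, mb C b ∈ nset D x := fun b hb => ((hcom _).mpr ⟨b, hb, rfl⟩).1.2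
  -- the near part
  have hnear : ∀ i < 693, orth (gpt 5) i = true → (mb C i ∈ nset D x ↔ i = gpt 5 ∨ i ∈ nb0) := by
    intro i hi ho
    constructor
    · intro h
      by_cases e : i = gpt 5
      · exact Or.inl e
      right
      obtain ⟨b, hb, hbe⟩ := (hcom (mb C i)).mp ⟨⟨mb_mem C hi, h⟩,
        fun h' => e (mb_inj C hi hg5 (h'.trans hCa.symm)), hCa ▸ (mb_comm C hg5 hi).mpr ho⟩
      rwa [← mb_inj C (hnb b hb).1 hi hbe]
    · rintro (rfl | h)
      · rw [hCa]; exact ha.2
      · exact hbS i h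
  -- the standard subset contains all
  have hsub : ∀ i < 693, mb C i ∈ nset D x → inT0 i = true := by
    intro i hi hS
    by_cases ho : orth (gpt 5) i = true
    · rcases (hnear i hi ho).mp hS with rfl | h
      · exact five0_facts.2.2.2.2.2.2.2.2.2.2.2.2.2.2
      · exact (hnb i h).2.1
    by_contra hT
    have hk := all_range (p := witOK) witB0 (Nat.zero_le _) (show i < 0 + 693 by omega)
    simp only [witOK, Bool.or_eq_true, Bool.and_eq_true, Bool.not_eq_true', List.all_eq_true,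
      List.mem_range, blt_iff] at hk
    rcases hk with (h | h) | ⟨⟨⟨hlet, hw5⟩, hwne⟩, hwn⟩
    · exact ho h
    · exact hT h
    have hlp : ∀ m < 47, letPt i m < 693 ∧ mb C (letPt i m) ∈ nset D x := by
      intro m hm
      unfold letPt
      by_cases h0 : m = 0
      · subst h0; exact ⟨hi, hS⟩
      rw [show Nat.beq m 0 = false from Bool.eq_false_iff.mpr fun e => h0 (beq_iff.mp e), cond_false]
      by_cases h46 : m = 46
      · subst h46; exact ⟨hg5, hCa ▸ ha.2⟩
      rw [show Nat.beq m 46 = false from Bool.eq_false_iff.mpr fun e => h46 (beq_iff.mp e), cond_false]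
      have hl : nb0.length = 45 := by decide +kernel
      rw [List.getD_eq_getElem _ _ (by omega)]
      exact ⟨(hnb _ (List.getElem_mem _)).1, hbS _ (List.getElem_mem _)⟩
    have hclose : ∀ p q, p < 693 → q < 693 → mb C p ∈ nset D x → mb C q ∈ nset D x →
        tm p q < 693 ∧ mb C (tm p q) ∈ nset D x := by
      intro p q hp hq mp mq
      obtain ⟨-, -, h2⟩ := mp
      obtain ⟨h4, h5', h6⟩ := mq
      refine ⟨tm_lt hp hq, (mb_mem C (tm_lt hp hq)).1, fun e => h5' ?_, ?_⟩
      · rw [← mb_conj C L hp hq, mul_inv_eq_iff_eq_mul, h2.eq] at e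
        exact mul_left_cancel e
      · rw [← mb_conj C L hp hq]; exact (h2.mul_right h6).mul_right h2.inv_right
    obtain ⟨l4, m4⟩ := hlp _ (hlet 4 (by norm_num))
    obtain ⟨l3, m3⟩ := hlp _ (hlet 3 (by norm_num))
    obtain ⟨l2, m2⟩ := hlp _ (hlet 2 (by norm_num))
    obtain ⟨l1, m1⟩ := hlp _ (hlet 1 (by norm_num))
    obtain ⟨l0, m0⟩ := hlp _ (hlet 0 (by norm_num))
    obtain ⟨n3, s3⟩ := hclose _ _ l3 l4 m3 m4
    obtain ⟨n2, s2⟩ := hclose _ _ l2 n3 m2 s3
    obtain ⟨n1, s1⟩ := hclose _ _ l1 n2 m1 s2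
    obtain ⟨n0, s0⟩ := hclose _ _ l0 n1 m0 s1
    have hv : witVal i < 693 ∧ mb C (witVal i) ∈ nset D x := ⟨n0, s0⟩
    rcases (hnear _ hv.1 hw5).mp hv.2 with h | h
    · rw [h, Nat.beq_refl] at hwne; exact Bool.noConfusion hwne
    · rw [memN_iff.mpr h] at hwn; exact Bool.noConfusion hwn
  refine ⟨C, hCa, fun i hi => ⟨hsub i hi, fun hT => ?_⟩⟩
  by_cases ho : orth (gpt 5) i = true
  · refine (hnear i hi ho).mpr ?_
    have h := List.all_eq_true.mp nb0_ok.2.2 i (List.mem_range.mpr hi)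
    simp only [hT, ho, Bool.and_self, Bool.not_true, Bool.false_or, Bool.or_eq_true, beq_iff, memN_iff] at h
    exact h
  have hd' := all_range (p := diamOK) diam0 (Nat.zero_le _) (show i < 0 + 693 by omega)
  simp only [diamOK, Bool.eq_false_iff.mpr ho, Bool.false_or, List.any_eq_true] at hd'
  obtain ⟨b, hb, hib⟩ := hd'
  obtain ⟨hbl, -, h5b, hb5⟩ := hnb b hb
  have hbc : mb C b ∈ nset D d ∩ nset D x := ⟨mb_mem C hbl, hbS b hb⟩
  obtain ⟨five, -, hnd, hlen, hmem, -, -⟩ := neighbours L hd hx hbc hnc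
  have key : ∀ y ∈ gev five, ∃ j ∈ tdeg b, mb C j = y := by
    intro y hy
    obtain ⟨⟨hyd, hyx⟩, hyb, hby⟩ := (hmem y).mp hy
    obtain ⟨j, hj, rfl⟩ := mb_surj C hyd
    refine ⟨j, List.mem_filter.mpr ⟨List.mem_range.mpr hj, ?_⟩, rfl⟩
    simp only [Bool.and_eq_true, Bool.not_eq_true']
    exact ⟨⟨hsub j hj hyx, (mb_comm C hbl hj).mp hby⟩,
      Bool.eq_false_iff.mpr fun e => hyb (by rw [beq_iff.mp e])⟩
  have hp : ((tdeg b).map (mb C)).Perm (gev five) := by
    refine ((hnd.subperm fun y hy => ?_).perm_of_length_le ?_).symm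
    · obtain ⟨j, hj, e⟩ := key y hy
      exact List.mem_map.mpr ⟨j, hj, e⟩
    · rw [List.length_map, hlen]
      exact (Nat.eq_of_beq_eq_true (List.all_eq_true.mp tdeg_ok b hb)).le
  have him : i ∈ tdeg b := by
    refine List.mem_filter.mpr ⟨List.mem_range.mpr hi, ?_⟩
    simp only [Bool.and_eq_true, Bool.not_eq_true']
    refine ⟨⟨hT, by rw [orth_symm hbl hi]; exact hib⟩, Bool.eq_false_iff.mpr fun e => ho ?_⟩
    rw [beq_iff.mp e]; exact h5b
  exact ((hmem _).mp (hp.mem_iff.mp (List.mem_map.mpr ⟨i, him, rfl⟩))).1.2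

end Cfsg.Agent.Spor.CentU62
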