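import Cfsg.Agent.Lib.Spor.CentU62.Checks
import Cfsg.Agent.Lib.Spor.M22UReflChecks

/-!
The standard subset as the points of the reflection group.
-/

set_option autoImplicit false
set_option maxRecDepth 100000
set_option Elab.async false

namespace Cfsg.Agent.Spor.CentU62

open Cfsg.Agent.Spor.CC Cfsg.Agent.Spor.M22U

/-- the table -/
def betaTab : ℕ := 0xad00ea00ee0077004f001a00aa00ab00780030007e0017006f004a002d0016006a0147001b004b00a7004300b30048013e00a8004c002b007200a9000d007a00f800a600b5002600ac0019002f0047007600b60006004600ec0100000c002a013a00ba004e007000500028014100eb00af006900ff00f20029007400f3006d000e007d00f500450049007c013c013900410073007100b1007900f000bb006e0185013f00b40044000b00f10042006b006c00f700b8001500fc01890002002e01860005002700f40075002c00f600fd014200b20143014500b0002501870184007b014900fa004d000a00f9001800ef014000ae018801460144013d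

/-- the point of a root -/
def beta (a : ℕ) : ℕ := fld betaTab 16 a

/-- check of one root -/
def betaOK (a : ℕ) : Bool :=
  Nat.blt (beta a) 693 && inT0 (beta a) &&
    (List.range 126).all fun i => Nat.beq (tm (beta a) (beta i)) (beta (Refl.rim a i))

theorem beta_ok0 : rangeOK betaOK 0 126 = true := by decide +kernel

theorem beta_inj0 : nodupN ((List.range 126).map beta) = true ∧
    (List.range 693).all (fun z => !inT0 z || memN z ((List.range 126).map beta)) = true := by decide +kernel

end Cfsg.Agent.Spor.CentU62
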