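import Cfsg.Agent.Lib.Spor.CentU62.Loc

/-!
The local structure follows from the centraliser of one involution.
-/

set_option autoImplicit false
set_option maxRecDepth 100000
set_option linter.unusedSectionVars false

namespace Cfsg.Agent.Spor.CentU62

open Cfsg.Agent.Small.Unitary Cfsg.Agent.Spor.SpFour
open Cfsg.Agent.Spor.TSU (CD RR Setup zd)
open Cfsg.Agent.Spor.M22U (nset)
open Cfsg.Agent.Spor.M22U.Sym (timg)
open Cfsg.Agent.Spor.M22U.Norm (Coord)
open Cfsg.Agent.Spor.Fi22Cert.U62Act (theta theta_surjective)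

universe u
variable {G : Type u} [Group G] [Finite G] {d : G} {q : CD d →* RR}

theorem parts_one (hs : Setup d q) :
    (TSU.part q TSU.Q1).Nonempty ∧ TSU.part q TSU.Q2 = ∅ ∧ TSU.part q TSU.Q3 = ∅ := by
  have hX := (TSU.ncard_XG hs).trans (TSU.ncard_X0 hs)
  rw [TSU.count hs] at hX
  have c1 := TSU.count_single hs TSU.Q_subset.1 Set.subset_union_left (fun _ a _ b => TSU.trans_Q1 a b)
  have c2 := TSU.count_single hs TSU.Q_subset.2.1 Set.subset_union_right (fun _ a _ b => TSU.trans_Q2 a b)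
  rw [TSU.ncard_Q1] at c1
  rw [TSU.ncard_Q2] at c2
  have e0 : ∀ {P : Set RR}, TSU.part q P = ∅ → (TSU.part q P).ncard = 0 := fun h => by
    rw [h, Set.ncard_empty]
  rcases c1 with a | a <;> rcases c2 with b | b <;> rcases TSU.count_Q3 hs with c | c
  all_goals first
    | exact ⟨Set.nonempty_of_ncard_ne_zero (by omega), b, c⟩
    | (exfalso
       try rw [e0 a] at hX
       try rw [a] at hX
       try rw [e0 b] at hX
       try rw [b] at hX
       try rw [e0 c] at hX
       try rw [c] at hX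
       omega)

/-- the image of a member of the twenty-two is a transvection -/
theorem Q1_transvection (eU : RR ≃* Cfsg.PSU 6 F4 2) {x : RR} (hx : x ∈ TSU.Q1) :
    ∃ i < 693, eU x = M22U.Pts.ptr i := by
  haveI := TSU.finGrp
  obtain ⟨j, hj, rfl⟩ := hx
  have hjl := (TSU.mem_others.mp hj).2
  have hne : eU (TSU.pr (TSU.cd j)) ≠ 1 := fun h => (TSU.one_spec hj).1 (eU.map_eq_one_iff.mp h)
  have hsq : eU (TSU.pr (TSU.cd j)) * eU (TSU.pr (TSU.cd j)) = 1 := by rw [← map_mul, TSU.pr_sq, map_one]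
  rcases M22U.Invol.dichotomy hsq hne with ⟨u, hu0, hu, he⟩ | ⟨y, h2, h3⟩
  · obtain ⟨hl, hp⟩ := M22U.Pts.exists_ptr hu0 hu
    exact ⟨_, hl, he.trans hp⟩
  · exfalso
    obtain ⟨r, hr⟩ := eU.surjective y
    obtain ⟨v, rfl⟩ := theta_surjective r
    rw [TSU.pr_code hjl] at h2 h3
    set m : Fi22Cert.U62Act.Hsub := ⟨Cfsg.Agent.Lead.Fi22Two.Syl.mm j, TSU.EE_le (Cfsg.Agent.Lead.Fi22Two.Syl.mem_EE hjl)⟩
    rw [← hr, ← map_inv, ← map_mul, ← map_mul, ← map_mul, ← map_pow, ← map_inv, ← map_mul, ← map_mul,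
      ← map_mul, ← map_pow] at h2 h3
    have hm : (m : Fi22Cert.pres.Grp) ∈ M22U.Fischer.Dc := (M22U.Cent.dp _).2
    rcases M22U.Fischer.three.1.2 _ hm _ (M22U.Fischer.three.2.1 (v : Fi22Cert.pres.Grp) _ hm) with h | h
    · exact h2 (((congrArg (fun z => eU (theta z))
        (show (m * (v * m * v⁻¹)) ^ 2 = 1 from Subtype.ext h))).trans (by rw [map_one, map_one]))
    · exact h3 (((congrArg (fun z => eU (theta z))
        (show (m * (v * m * v⁻¹)) ^ 3 = 1 from Subtype.ext h))).trans (by rw [map_one, map_one]))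

/-- conjugates in the centraliser are lifts of transvections, one for each -/
theorem members (hs : Setup d q) (eU : RR ≃* Cfsg.PSU 6 F4 2) :
    (∀ y : CD d, (y : G) ∈ conjugatesOf d → (y : G) ≠ d → ∃ i < 693, eU (q y) = M22U.Pts.ptr i) ∧
    (∀ i < 693, ∃ y : CD d, ((y : G) ∈ conjugatesOf d ∧ (y : G) ≠ d) ∧ eU (q y) = M22U.Pts.ptr i) ∧
    (∀ y z : CD d, (y : G) ∈ conjugatesOf d → (y : G) ≠ d → (z : G) ∈ conjugatesOf d →
      q y = q z → y = z) := by
  obtain ⟨hne1, h2, h3⟩ := parts_one hs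
  have hd2 : ∀ w : G, w ∈ conjugatesOf d → w * w = 1 := by
    intro w hw
    obtain ⟨g, rfl⟩ := isConj_iff.mp hw
    calc g * d * g⁻¹ * (g * d * g⁻¹) = g * (d * d) * g⁻¹ := by group
      _ = 1 := by rw [hs.sq]; group
  have hd0 : ∀ w : G, w ∈ conjugatesOf d → w ≠ 1 := by
    intro w hw e
    obtain ⟨g, hg⟩ := isConj_iff.mp hw
    exact hs.ne (by rwa [e, mul_inv_eq_one, mul_eq_left] at hg)
  have hfix : ∀ (h y : CD d), ((h * y * h⁻¹ : CD d) : G) = d → (y : G) = d := by
    intro h y e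
    have hc : (h : G) * d = d * h := Subgroup.mem_centralizer_singleton_iff.mp h.2
    have e' : (h : G) * y * (h : G)⁻¹ = d := e
    rw [mul_inv_eq_iff_eq_mul, ← hc] at e'
    exact mul_left_cancel e'
  -- a member moved into the subgroup lands in the first part
  have hmove : ∀ y : CD d, (y : G) ∈ conjugatesOf d → (y : G) ≠ d →
      ∃ h : CD d, h * y * h⁻¹ ∈ TSU.part q TSU.Q1 := by
    intro y hy hne
    obtain ⟨r, hr⟩ := TSU.invol_AR (x := q y) (by
      rw [← map_mul, show y * y = 1 from Subtype.ext (hd2 _ hy), map_one])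
    obtain ⟨h, rfl⟩ := hs.surj r
    have hmem : h * y * h⁻¹ ∈ TSU.X0 q :=
      ⟨by rw [TSU.A0, Subgroup.mem_comap, map_mul, map_mul, map_inv]; exact hr, TSU.isConj_conj h hy⟩
    have hm := hmem
    rw [TSU.X0_split hs, h2, h3] at hm
    rcases hm with e | (e | e) | e
    · exact absurd (hfix h y (congrArg Subtype.val e)) hne
    · exact ⟨h, e⟩
    · exact absurd e (Set.notMem_empty _)
    · exact absurd e (Set.notMem_empty _)
  have himg : ∀ y : CD d, (y : G) ∈ conjugatesOf d → (y : G) ≠ d → ∃ i < 693, eU (q y) = M22U.Pts.ptr i := by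
    intro y hy hne
    obtain ⟨h, hh⟩ := hmove y hy hne
    obtain ⟨i, hi, hie⟩ := Q1_transvection eU hh.2
    obtain ⟨w, hw, hwe⟩ := M22U.Pts.from_first hi
    rw [map_mul, map_mul, map_inv, map_mul, map_mul, map_inv] at hie
    set p := eU (q h)
    obtain ⟨g, hg⟩ := QuotientGroup.mk'_surjective (Subgroup.center M22U.Invol.G6) p⁻¹
    have he : eU (q y) = p⁻¹ * M22U.Pts.ptr i * p⁻¹⁻¹ := by rw [← hie]; group
    rw [he, ← hg, M22U.Pts.ptr, ← map_inv, ← map_mul, ← map_mul, CoverUnitarySix.T_conj]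
    obtain ⟨hl, hp⟩ := M22U.Pts.exists_ptr (u := act g (M22U.Pts.gv i))
      (fun e => (M22U.Pts.gv_spec hi).1 (act_injective _ (e.trans (by simp [act]))))
      (by rw [herm_act F4.star_eq_pow]; exact (M22U.Pts.gv_spec hi).2)
    exact ⟨_, hl, hp⟩
  refine ⟨himg, ?_, ?_⟩
  · obtain ⟨y0, hy0, hy0q⟩ := hne1
    have hy0d : (y0 : G) ≠ d := fun e => by
      have h0 := hy0q
      rw [show y0 = zd d from Subtype.ext e, TSU.q_zd hs] at h0
      exact TSU.disjoint_parts.1 h0
    obtain ⟨j, hj, hje⟩ := himg y0 hy0.2 hy0d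
    intro i hi
    obtain ⟨w1, hw1, e1⟩ := M22U.Pts.from_first hj
    obtain ⟨w2, hw2, e2⟩ := M22U.Pts.from_first hi
    obtain ⟨h, hh⟩ := (eU.surjective.comp hs.surj) (M22U.Pts.pw (w2 ++ w1.reverse))
    refine ⟨h * y0 * h⁻¹, ⟨(TSU.isConj_conj h hy0.2), fun e => hy0d (hfix h y0 e)⟩, ?_⟩
    rw [map_mul, map_mul, map_inv, map_mul, map_mul, map_inv, show eU (q h) = _ from hh, hje,
      M22U.Pts.pw_conj (M22U.below_append hw2 (M22U.below_rev hw1)) hj, M22U.pev_append, ← e1,
      M22U.pev_rev hw1 (M22U.gpt_lt (by norm_num)), e2]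
  · intro y z hy hne hz hyz
    rcases TSU.same_fibre hs hyz with e | e
    · exact e
    exfalso
    obtain ⟨h, hh⟩ := hmove y hy hne
    refine TSU.not_both hs (Or.inl hh.2) ⟨hh.1, ?_, ?_⟩
    · exact mul_mem hh.1.1 (TSU.zd_A0 hs)
    · have : h * y * h⁻¹ * zd d = h * z * h⁻¹ := by
        calc h * y * h⁻¹ * zd d = h * z * (zd d * h⁻¹) * zd d := by rw [e]; simp only [mul_assoc]
          _ = h * z * (h⁻¹ * zd d) * zd d := by rw [← TSU.zd_comm hs h⁻¹]
          _ = h * z * h⁻¹ * (zd d * zd d) := by simp only [mul_assoc]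
          _ = h * z * h⁻¹ := by rw [TSU.zd_sq hs, mul_one]
      rw [this]
      exact TSU.isConj_conj h hz

/-- the coordinates at the given involution -/
theorem coord_at (hs : Setup d q) : Nonempty (Coord (conjugatesOf d) d) := by
  obtain ⟨eU⟩ := SUSix.range_equiv
  obtain ⟨himg, hex, hinj⟩ := members hs eU
  let el : ↥(nset (conjugatesOf d) d) → CD d := fun y =>
    ⟨y, Subgroup.mem_centralizer_singleton_iff.mpr y.2.2.2.symm.eq⟩
  choose f hf hfe using fun y : ↥(nset (conjugatesOf d) d) => himg (el y) y.2.1 y.2.2.1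
  let F : ↥(nset (conjugatesOf d) d) → Fin 693 := fun y => ⟨f y, hf y⟩
  have hbij : Function.Bijective F := by
    constructor
    · intro y z h
      refine Subtype.ext (congrArg Subtype.val
        (hinj (el y) (el z) y.2.1 y.2.2.1 z.2.1 (eU.injective ?_)) :)
      rw [hfe, hfe, show f y = f z from congrArg Fin.val h]
    · intro i
      obtain ⟨y, ⟨h1, h2⟩, h3⟩ := hex i i.2
      refine ⟨⟨y, h1, h2, (Subgroup.mem_centralizer_singleton_iff.mp y.2).symm⟩, Fin.ext ?_⟩
      exact M22U.Pts.ptr_inj (hf _) i.2 ((hfe _).symm.trans h3)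
  have hconj : ∀ x y : ↥(nset (conjugatesOf d) d), (x : G) * y * (x : G)⁻¹ ∈ nset (conjugatesOf d) d := by
    intro x y
    have hc : Commute d ((x : G) * y * (x : G)⁻¹) :=
      ((x.2.2.2).mul_right y.2.2.2).mul_right x.2.2.2.inv_right
    refine ⟨y.2.1.trans (isConj_iff.mpr ⟨(x : G), rfl⟩), fun e => y.2.2.1 ?_, hc⟩
    rw [mul_inv_eq_iff_eq_mul, x.2.2.2.eq] at e
    exact mul_left_cancel e
  have himage : ∀ x y : ↥(nset (conjugatesOf d) d), (f ⟨_, hconj x y⟩) = timg (f x) (f y) := by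
    intro x y
    obtain ⟨hl, e⟩ := M22U.Sym.conj_vec (hf x) (hf y)
    refine M22U.Pts.ptr_inj (hf _) hl ?_
    rw [← e, ← hfe, ← hfe, ← hfe, ← map_inv, ← map_mul, ← map_mul, ← map_inv, ← map_mul, ← map_mul]
    rfl
  refine ⟨⟨Equiv.ofBijective F hbij, fun x y z hz => ?_, fun x y => ?_⟩⟩
  · show f z = timg (f x) (f y)
    rw [← himage x y]
    exact congrArg f (Subtype.ext hz)
  · show Commute (x : G) (y : G) ↔ herm (M22U.Pts.gv (f x)) (M22U.Pts.gv (f y)) = 0
    rw [← M22U.Pts.ptr_commute (hf x) (hf y), ← hfe, ← hfe]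
    constructor
    · intro h
      exact ((show Commute (el x) (el y) from Subtype.ext h.eq).map q).map eU.toMonoidHom
    · intro h
      have e := himage x y
      have e' : (⟨_, hconj x y⟩ : ↥(nset (conjugatesOf d) d)) = y := by
        apply hbij.1
        refine Fin.ext (e.trans (M22U.Pts.ptr_inj (M22U.Sym.conj_vec (hf x) (hf y)).1 (hf y) ?_))
        rw [← (M22U.Sym.conj_vec (hf x) (hf y)).2, mul_inv_eq_iff_eq_mul]
        rw [hfe, hfe] at h
        exact h.eq
      exact mul_inv_eq_iff_eq_mul.mp (congrArg Subtype.val e')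

/-- only d and the identity are central in the centraliser -/
theorem centre_at (hs : Setup d q) {z : G} (hz : Commute z d)
    (hall : ∀ g : G, Commute g d → Commute g z) : z = 1 ∨ z = d := by
  refine (hs.ker ⟨z, Subgroup.mem_centralizer_singleton_iff.mpr hz.eq⟩).mp ?_
  set z' : CD d := ⟨z, Subgroup.mem_centralizer_singleton_iff.mpr hz.eq⟩
  haveI := SUSix.simple_range
  have hzc : q z' ∈ Subgroup.center RR := Subgroup.mem_center_iff.mpr fun r => by
    obtain ⟨g, rfl⟩ := hs.surj r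
    rw [← map_mul, ← map_mul]
    exact congrArg q (Subtype.ext (hall g (Subgroup.mem_centralizer_singleton_iff.mp g.2)).eq)
  rcases (inferInstance : (Subgroup.center RR).Normal).eq_bot_or_eq_top with h | h
  · rw [h, Subgroup.mem_bot] at hzc; exact hzc
  · exfalso
    obtain ⟨eU⟩ := SUSix.range_equiv
    obtain ⟨i, hi, hio⟩ := M22U.zero_ok.2 0 (by norm_num)
    have hc : ∀ a b : Cfsg.PSU 6 F4 2, Commute a b := fun a b => by
      obtain ⟨a, rfl⟩ := eU.surjective a
      obtain ⟨b, rfl⟩ := eU.surjective b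
      have hb : b ∈ Subgroup.center RR := by rw [h]; exact Subgroup.mem_top _
      exact (show Commute a b from Subgroup.mem_center_iff.mp hb a).map eU.toMonoidHom
    have h0 := (hc (M22U.Pts.ptr (M22U.gpt 0)) (M22U.Pts.ptr (M22U.gpt i)))
    have hiso := M22U.Pts.gen_conj (show (0 : ℕ) < 8 by norm_num) (M22U.gpt_lt (show i < 8 by omega))
    rw [h0.eq, mul_inv_cancel_right] at hiso
    have e := M22U.Pts.ptr_inj (M22U.gpt_lt (show i < 8 by omega))
      (M22U.pim_spec (show 0 < 8 by norm_num) (M22U.gpt_lt (show i < 8 by omega))).1 hiso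
    have hcwd : ∀ i < 7, M22U.orth (M22U.gpt 0) (M22U.gpt i) = Nat.beq (M22U.pim 0 (M22U.gpt i)) (M22U.gpt i) := by
      decide +kernel
    rw [hcwd i hi, ← e, Nat.beq_refl] at hio
    exact Bool.noConfusion hio

/-- the members commuting with d generate the centraliser -/
theorem gen_at (hs : Setup d q) :
    Subgroup.closure (nset (conjugatesOf d) d) = Subgroup.centralizer ({d} : Set G) := by
  refine le_antisymm ((Subgroup.closure_le _).mpr fun y hy =>
    Subgroup.mem_centralizer_singleton_iff.mpr hy.2.2.symm.eq) ?_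
  set S := Subgroup.closure (nset (conjugatesOf d) d)
  set N : Subgroup (CD d) := S.subgroupOf (CD d)
  have hN : N.Normal := by
    refine ⟨fun n hn g => ?_⟩
    have hgd : (g : G) * d * (g : G)⁻¹ = d :=
      mul_inv_eq_iff_eq_mul.mpr (Subgroup.mem_centralizer_singleton_iff.mp g.2)
    have key : S ≤ S.comap (MulAut.conj (g : G)).toMonoidHom := by
      rw [Subgroup.closure_le]
      intro y hy
      refine Subgroup.subset_closure ⟨hy.1.trans (isConj_iff.mpr ⟨(g : G), rfl⟩),
        fun e => hy.2.1 (mul_left_cancel (mul_right_cancel ((show (g : G) * y * (g : G)⁻¹ = d from e).trans hgd.symm))),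
        ?_⟩
      have := hy.2.2.map (MulAut.conj (g : G)).toMonoidHom
      simpa [hgd] using this
    exact key hn
  haveI := SUSix.simple_range
  have hmapn : (N.map q).Normal := hN.map q hs.surj
  have htop : N.map q = ⊤ := by
    refine hmapn.eq_bot_or_eq_top.resolve_left fun hb => ?_
    obtain ⟨eU⟩ := SUSix.range_equiv
    obtain ⟨y, ⟨h1, h2⟩, h3⟩ := (members hs eU).2.1 (M22U.gpt 0) (M22U.gpt_lt (by norm_num))
    have hy : y ∈ N := Subgroup.subset_closure ⟨h1, h2, (Subgroup.mem_centralizer_singleton_iff.mp y.2).symm⟩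
    have : q y ∈ N.map q := Subgroup.mem_map_of_mem q hy
    rw [hb, Subgroup.mem_bot] at this
    rw [this, map_one] at h3
    exact M22U.Pts.ptr_ne_one (M22U.gpt_lt (by norm_num)) h3.symm
  have hdec : ∀ x : CD d, ∃ n ∈ N, x = n ∨ x = n * zd d := fun x => by
    obtain ⟨n, hn, e⟩ : q x ∈ N.map q := by rw [htop]; exact Subgroup.mem_top _
    exact ⟨n, hn, TSU.same_fibre hs e.symm⟩
  have hcomm : commutator (CD d) ≤ N := by
    rw [commutator_def, Subgroup.commutator_le]
    intro x _ y _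
    obtain ⟨n, hn, hx⟩ := hdec x
    obtain ⟨m, hm, hy⟩ := hdec y
    have hz : ∀ u : CD d, Commute u (zd d) := fun u => TSU.zd_comm hs u
    have hzi : (zd d)⁻¹ = zd d := inv_eq_of_mul_eq_one_right (TSU.zd_sq hs)
    rw [commutatorElement_def]
    have e : x * y * x⁻¹ * y⁻¹ = n * m * n⁻¹ * m⁻¹ := by
      rcases hx with rfl | rfl <;> rcases hy with rfl | rfl
      · rfl
      · calc x * (m * zd d) * x⁻¹ * (m * zd d)⁻¹ = x * m * (zd d * x⁻¹) * (zd d)⁻¹ * m⁻¹ := by group
          _ = _ := by rw [← (hz x⁻¹).eq]; group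
      · calc n * zd d * y * (n * zd d)⁻¹ * y⁻¹ = n * (zd d * y) * (zd d)⁻¹ * n⁻¹ * y⁻¹ := by group
          _ = _ := by rw [← (hz y).eq]; group
      · calc n * zd d * (m * zd d) * (n * zd d)⁻¹ * (m * zd d)⁻¹
              = n * (zd d * m) * n⁻¹ * (zd d)⁻¹ * m⁻¹ := by group
          _ = n * (m * zd d) * (n⁻¹ * (zd d)⁻¹) * m⁻¹ := by rw [← (hz m).eq]; group
          _ = n * (m * zd d) * ((zd d)⁻¹ * n⁻¹) * m⁻¹ := by rw [(hz n⁻¹).inv_right.eq]
          _ = _ := by group
    rw [e]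
    exact N.mul_mem (N.mul_mem (N.mul_mem hn hm) (N.inv_mem hn)) (N.inv_mem hm)
  rw [hs.perfect] at hcomm
  intro g hg
  exact hcomm (Subgroup.mem_top (⟨g, hg⟩ : CD d))

/-- carrying coordinates along a conjugation -/
theorem coord_conj {D : Set G} (hD : ∀ g : G, ∀ x ∈ D, g * x * g⁻¹ ∈ D) (g : G) {x : G}
    (C : Coord D x) : Nonempty (Coord D (g * x * g⁻¹)) := by
  let σ : ↥(nset D (g * x * g⁻¹)) ≃ ↥(nset D x) :=
    { toFun := fun y => ⟨g⁻¹ * y * g, by
        refine ⟨by simpa using hD g⁻¹ _ y.2.1, fun e => y.2.2.1 ((show (y : G) = g * (g⁻¹ * y * g) * g⁻¹ by group).trans (by rw [e])), ?_⟩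
        have := y.2.2.2.map (MulAut.conj g⁻¹).toMonoidHom
        simpa [mul_assoc] using this⟩
      invFun := fun y => ⟨g * y * g⁻¹, by
        refine ⟨hD g _ y.2.1, fun e => y.2.2.1 (mul_left_cancel (mul_right_cancel e)), ?_⟩
        exact Spor.commute_conj_iff.mpr y.2.2.2⟩
      left_inv := fun y => Subtype.ext (by show g * (g⁻¹ * (y : G) * g) * g⁻¹ = y; group)
      right_inv := fun y => Subtype.ext (by show g⁻¹ * (g * (y : G) * g⁻¹) * g = y; group) }
  refine ⟨⟨σ.trans C.e, fun a b c hc => C.conj _ _ _ ?_, fun a b => ?_⟩⟩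
  · show g⁻¹ * (c : G) * g = g⁻¹ * a * g * (g⁻¹ * b * g) * (g⁻¹ * a * g)⁻¹
    rw [hc]; group
  · refine Iff.trans ?_ (C.comm (σ a) (σ b))
    show _ ↔ Commute (g⁻¹ * (a : G) * g) (g⁻¹ * (b : G) * g)
    conv_lhs => rw [← Spor.commute_conj_iff (g := g⁻¹), inv_inv]

/-- the local structure at every conjugate -/
theorem loc_of (hs : Setup d q) : Loc (conjugatesOf d) := by
  have hconj : ∀ g : G, ∀ x ∈ conjugatesOf d, g * x * g⁻¹ ∈ conjugatesOf d :=
    fun g x hx => hx.trans (isConj_iff.mpr ⟨g, rfl⟩)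
  have hd : orderOf d = 2 := orderOf_eq_prime (by rw [pow_two]; exact hs.sq) hs.ne
  refine ⟨hconj, fun x hx => ?_, fun x hx y hy => isConj_iff.mp (hx.symm.trans hy), fun x hx => ?_,
    fun x hx => ?_, fun x hx z hz hall => ?_⟩ <;> obtain ⟨g, rfl⟩ := isConj_iff.mp hx
  · exact (orderOf_injective (MulAut.conj g).toMonoidHom (MulAut.conj g).injective d).trans hd
  · obtain ⟨C⟩ := coord_at hs
    exact coord_conj hconj g C
  · have h1 : (MulAut.conj g) '' nset (conjugatesOf d) d = nset (conjugatesOf d) (g * d * g⁻¹) := by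
      ext y
      constructor
      · rintro ⟨u, hu, rfl⟩
        exact ⟨hconj g u hu.1, fun e => hu.2.1 ((MulAut.conj g).injective e), Spor.commute_conj_iff.mpr hu.2.2⟩
      · intro hy
        refine ⟨g⁻¹ * y * g, ⟨by simpa using hconj g⁻¹ y hy.1, fun e => hy.2.1 (by rw [← e]; group), ?_⟩,
          by show g * (g⁻¹ * y * g) * g⁻¹ = y; group⟩
        rw [← Spor.commute_conj_iff (g := g), show g * (g⁻¹ * y * g) * g⁻¹ = y by group]
        exact hy.2.2
    rw [← h1, show ⇑(MulAut.conj g) = ⇑(MulAut.conj g).toMonoidHom from rfl,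
      ← MonoidHom.map_closure, gen_at hs]
    ext y
    rw [Subgroup.mem_map, Subgroup.mem_centralizer_singleton_iff]
    constructor
    · rintro ⟨u, hu, rfl⟩
      rw [Subgroup.mem_centralizer_singleton_iff] at hu
      exact (Spor.commute_conj_iff (g := g) (a := u) (b := d)).mpr hu
    · intro hy
      refine ⟨g⁻¹ * y * g, Subgroup.mem_centralizer_singleton_iff.mpr ?_,
        by show g * (g⁻¹ * y * g) * g⁻¹ = y; group⟩
      rw [← commute_iff_eq, ← Spor.commute_conj_iff (g := g), show g * (g⁻¹ * y * g) * g⁻¹ = y by group]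
      exact hy
  · have hz' : Commute (g⁻¹ * z * g) d := by
      rw [← Spor.commute_conj_iff (g := g), show g * (g⁻¹ * z * g) * g⁻¹ = z by group]
      exact hz
    rcases centre_at hs hz' (fun u hu => by
      rw [← Spor.commute_conj_iff (g := g), show g * (g⁻¹ * z * g) * g⁻¹ = z by group]
      exact hall _ (Spor.commute_conj_iff.mpr hu)) with e | e
    · exact Or.inl (by rw [show z = g * (g⁻¹ * z * g) * g⁻¹ by group, e]; group)
    · exact Or.inr (by rw [show z = g * (g⁻¹ * z * g) * g⁻¹ by group, e])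

/-- the centraliser modulo its centre is the unitary group -/
theorem quot_psu (hs : Setup d q) :
    Nonempty (CD d ⧸ Subgroup.center (CD d) ≃* Cfsg.PSU 6 F4 2) := by
  obtain ⟨eU⟩ := SUSix.range_equiv
  have hc : Subgroup.center (CD d) = q.ker := by
    refine le_antisymm (fun z hz => ?_) (TSU.ker_central hs)
    rw [MonoidHom.mem_ker, hs.ker]
    exact centre_at hs (Subgroup.mem_centralizer_singleton_iff.mp z.2) fun g hg =>
      congrArg Subtype.val (Subgroup.mem_center_iff.mp hz ⟨g, Subgroup.mem_centralizer_singleton_iff.mpr hg.eq⟩)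
  exact ⟨(QuotientGroup.quotientMulEquivOfEq hc).trans
    ((QuotientGroup.quotientKerEquivOfSurjective q hs.surj).trans eU)⟩

end Cfsg.Agent.Spor.CentU62
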