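import Cfsg.Agent.Lib.Spor.CentU62.Data
import Cfsg.Agent.Lib.Spor.M22UTables

/-!
Checks on the tables.
-/

set_option autoImplicit false
set_option maxRecDepth 100000
set_option Elab.async false

namespace Cfsg.Agent.Spor.CentU62

open Cfsg.Agent.Spor.CC Cfsg.Agent.Spor.M22U

/-- conjugation of points through the words -/
def tm (x y : ℕ) : ℕ := pev (cwd x) y

/-- one step of the rule -/
def slpStep (L : List ℕ) (p : ℕ × ℕ) : List ℕ := L ++ [tm (L.getD p.1 0) (L.getD p.2 0)]

/-- the members obtained from five -/
def evL (five : List ℕ) : List ℕ := Dat.slp.foldl slpStep five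

/-- membership -/
def memN (x : ℕ) (L : List ℕ) : Bool := L.any fun y => Nat.beq x y

/-- no repetition -/
def nodupN : List ℕ → Bool
  | [] => true
  | x :: L => !memN x L && nodupN L

/-- five collinear points -/
def line5 (L : List ℕ) : Bool :=
  Nat.beq L.length 5 && nodupN L && L.all (fun a => L.all fun b => orth a b) &&
    (List.range 693).all fun z => !(orth z (L.getD 0 0) && orth z (L.getD 1 0)) || L.all fun a => orth z a

/-- the standard five -/
def five0 : List ℕ := [gpt 0, gpt 1, gpt 2, gpt 3, gpt 6]

/-- the standard 45 -/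
def nb0 : List ℕ := evL five0

/-- the selected five of a list -/
def pick (L : List ℕ) : List ℕ := Dat.lineIx.map fun i => L.getD i 0

/-- word moving the standard pair -/
def pairW (z : ℕ) : List ℕ := wdec 16 (fld Dat.pairTab 48 z)

/-- check of a pair -/
def pairOK (z : ℕ) : Bool :=
  orth (gpt 4) z || (below 8 (pairW z) && Nat.beq (pev (pairW z) (gpt 4)) (gpt 4) &&
    Nat.beq (pev (pairW z) (gpt 5)) z)

/-- a point orthogonal to the standard pair is among the 45 -/
def comOK (z : ℕ) : Bool := !(orth (gpt 4) z && orth (gpt 5) z) || memN z (evL Dat.vals)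

/-- the standard pattern of the fifth -/
def pattOK (x : ℕ) : Bool :=
  !orth (gpt 0) x && orth (gpt 1) x && !orth (gpt 2) x && orth (gpt 3) x && orth (gpt 5) x

/-- check of a candidate for the fifth -/
def candOK2 (x : ℕ) : Bool :=
  !pattOK x || Nat.beq x (gpt 1) || !nodupN (evL [gpt 0, gpt 1, gpt 2, gpt 3, x]) ||
    line5 (pick (evL [gpt 0, gpt 1, gpt 2, gpt 3, x])) ||
    (List.range 693).any fun q =>
      orth (gpt 0) q && orth (gpt 1) q && orth (gpt 2) q && !orth (gpt 3) q && !orth (gpt 5) q && orth q x

/-- the 45 meet the neighbourhood of every outside point -/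
def diamOK (z : ℕ) : Bool := orth (gpt 5) z || nb0.any fun b => orth z b

/-- the point of a letter -/
def letPt (y m : ℕ) : ℕ := bif Nat.beq m 0 then y else bif Nat.beq m 46 then gpt 5 else nb0.getD (m - 1) 0

/-- value of a witness -/
def witVal (y : ℕ) : ℕ :=
  let f := fld Dat.witTab 32 y
  tm (letPt y (fld f 6 0)) (tm (letPt y (fld f 6 1)) (tm (letPt y (fld f 6 2))
    (tm (letPt y (fld f 6 3)) (letPt y (fld f 6 4)))))

/-- check that a point outside the standard subset cannot be joined -/
def witOK (y : ℕ) : Bool :=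
  orth (gpt 5) y || inT0 y ||
    ((List.range 5).all (fun i => Nat.blt (fld (fld Dat.witTab 32 y) 6 i) 47) &&
      orth (gpt 5) (witVal y) && !Nat.beq (witVal y) (gpt 5) && !memN (witVal y) nb0)

theorem slp_ok : Dat.slp.length = 40 ∧ Dat.vals.length = 5 ∧ (∀ x ∈ Dat.vals, x < 693) ∧
    (∀ i ∈ Dat.lineIx, i < 45) ∧ Dat.lineIx.length = 5 ∧
    (∀ k < 40, (Dat.slp.getD k (0, 0)).1 < k + 5 ∧ (Dat.slp.getD k (0, 0)).2 < k + 5) := by
  decide +kernel

theorem std_ok : nodupN (evL Dat.vals) = true ∧
    (evL Dat.vals).all (fun v => Nat.blt v 693 && orth (gpt 4) v && orth (gpt 5) v && orth v (gpt 4) && orth v (gpt 5)) = true ∧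
    line5 (pick (evL Dat.vals)) = true ∧ orth (gpt 4) (gpt 5) = false := by decide +kernel

theorem vals_pattern : (List.range 5).all (fun i => (List.range 5).all fun k =>
    orth (Dat.vals.getD i 0) (Dat.vals.getD k 0) == orth (five0.getD i 0) (five0.getD k 0)) = true := by
  decide +kernel

theorem nb0_ok : nodupN nb0 = true ∧
    nb0.all (fun v => Nat.blt v 693 && inT0 v && orth (gpt 5) v && !Nat.beq v (gpt 5)) = true ∧
    (List.range 693).all (fun v => !(inT0 v && orth (gpt 5) v) || Nat.beq v (gpt 5) || memN v nb0) = true := by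
  decide +kernel

theorem pair0 : rangeOK pairOK 0 693 = true := by decide +kernel

theorem com0' : rangeOK comOK 0 693 = true := by decide +kernel

theorem candB0 : rangeOK candOK2 0 693 = true := by decide +kernel

theorem diam0 : rangeOK diamOK 0 693 = true := by decide +kernel

theorem witB0 : rangeOK witOK 0 693 = true := by decide +kernel

end Cfsg.Agent.Spor.CentU62
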