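import Cfsg.Agent.Lib.Spor.CentU62.Around
import Cfsg.Agent.Lib.Spor.M22UIso
import Cfsg.Agent.Lib.Spor.M22UFischer
import Cfsg.Agent.Lib.Spor.Fi22Main

/-!
The component of d in the commuting graph on its conjugates is a class of 3-transpositions generating a
subgroup isomorphic to Fi22.
-/

set_option autoImplicit false
set_option maxRecDepth 100000
set_option linter.unusedSectionVars false

namespace Cfsg.Agent.Spor.CentU62

open Cfsg.Agent.Spor.M22U
open Cfsg.Agent.Spor.M22U.Norm (Coord)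
open Cfsg.Agent.Spor.CC (all_range)

universe u
variable {G : Type u} [Group G] {D : Set G}

/-- adjacency -/
def Adj (D : Set G) (x y : G) : Prop := x ∈ D ∧ y ∈ D ∧ Commute x y

/-- the component of d -/
def Delta (D : Set G) (d : G) : Set G := {y | Relation.ReflTransGen (Adj D) d y}

/-- the group of the component -/
def Grp (D : Set G) (d : G) : Subgroup G := Subgroup.closure (Delta D d)

/-- the component inside its group -/
def DK (D : Set G) (d : G) : Set (Grp D d) := {k | (k : G) ∈ Delta D d}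

variable (L : Loc D) {d : G} (hd : d ∈ D)

theorem adj_symm {x y : G} (h : Adj D x y) : Adj D y x := ⟨h.2.1, h.1, h.2.2.symm⟩

include hd in
theorem delta_sub {y : G} (h : y ∈ Delta D d) : y ∈ D := by
  induction h with
  | refl => exact hd
  | tail _ hst _ => exact hst.2.1

theorem d_mem : d ∈ Delta D d := Relation.ReflTransGen.refl

include hd in
theorem step_mem {x y : G} (hx : x ∈ Delta D d) (hy : y ∈ D) (h : Commute x y) : y ∈ Delta D d :=
  hx.tail ⟨delta_sub hd hx, hy, h⟩

theorem delta_symm {x : G} (hx : x ∈ Delta D d) : Delta D x = Delta D d := by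
  have hrev : ∀ {u v : G}, Relation.ReflTransGen (Adj D) u v → Relation.ReflTransGen (Adj D) v u := by
    intro u v h
    induction h with
    | refl => exact Relation.ReflTransGen.refl
    | tail _ hst ih => exact Relation.ReflTransGen.head (adj_symm hst) ih
  ext y
  exact ⟨fun hy => hx.trans hy, fun hy => (hrev hx).trans hy⟩

include L in
theorem delta_conj (g : G) {x y : G} (hy : y ∈ Delta D x) : g * y * g⁻¹ ∈ Delta D (g * x * g⁻¹) :=
  Relation.ReflTransGen.lift (fun z => g * z * g⁻¹)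
    (fun p q (h : Adj D p q) => ⟨L.conj g p h.1, L.conj g q h.2.1, Spor.commute_conj_iff.mpr h.2.2⟩) x y hy

include L in
/-- diameter two -/
theorem near {x y : G} (hx : x ∈ D) (hy : y ∈ Delta D x) :
    y = x ∨ Commute x y ∨ ∃ a, a ∈ nset D x ∩ nset D y := by
  induction hy with
  | refl => exact Or.inl rfl
  | @tail p q _ hpq ih =>
    by_cases hxq : Commute x q
    · exact Or.inr (Or.inl hxq)
    have hqx : q ≠ x := fun e => hxq (e ▸ Commute.refl _)
    rcases ih with rfl | hxp | ⟨a, hap⟩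
    · exact absurd hpq.2.2 hxq
    · refine Or.inr (Or.inr ⟨p, ⟨hpq.1, fun e => hxq (e ▸ hpq.2.2), hxp⟩,
        ⟨hpq.1, fun e => hxq (e ▸ hxp), hpq.2.2.symm⟩⟩)
    by_cases hxp : Commute x p
    · exact Or.inr (Or.inr ⟨p, ⟨hpq.1, fun e => hxq (e ▸ hpq.2.2), hxp⟩,
        ⟨hpq.1, fun e => hxq (e ▸ hxp), hpq.2.2.symm⟩⟩)
    right; right
    by_cases hqp : q = p
    · exact ⟨a, hqp ▸ hap⟩
    obtain ⟨C, hCa, hS⟩ := normal L hpq.1 hx ⟨hap.2, hap.1⟩ (fun h => hxp h.symm)
    obtain ⟨i, hi, rfl⟩ := mb_surj C (y := q) ⟨hpq.2.1, hqp, hpq.2.2⟩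
    have hg5 : gpt 5 < 693 := gpt_lt (by norm_num)
    have hax : mb C (gpt 5) ∈ nset D x := by rw [hCa]; exact hap.1
    by_cases ho : orth (gpt 5) i = true
    · refine ⟨a, hap.1, hap.1.1, fun e => hxq (e ▸ hap.1.2.2), ?_⟩
      rw [← hCa]
      exact ((mb_comm C hg5 hi).mpr ho).symm
    have hd' := all_range (p := diamOK) diam0 (Nat.zero_le _) (show i < 0 + 693 by omega)
    simp only [diamOK, Bool.eq_false_iff.mpr ho, Bool.false_or, List.any_eq_true] at hd'
    obtain ⟨b, hb, hib⟩ := hd'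
    have hbb := List.all_eq_true.mp nb0_ok.2.1 b hb
    simp only [Bool.and_eq_true, blt_iff] at hbb
    have hbS := (hS b hbb.1.1.1).mpr hbb.1.1.2
    exact ⟨mb C b, hbS, hbS.1, fun e => hxq (e ▸ hbS.2.2), (mb_comm C hi hbb.1.1.1).mpr hib⟩

include L hd in
/-- two members of the component commute or braid -/
theorem pair_braid {x y : G} (hx : x ∈ Delta D d) (hy : y ∈ Delta D d) :
    Commute x y ∨ x * y * x = y * x * y := by
  by_cases h : Commute x y
  · exact Or.inl h
  right
  rcases near L (delta_sub hd hx) ((delta_symm hx).symm ▸ hy) with e | e | ⟨a, ha⟩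
  · exact absurd (e ▸ Commute.refl _) h
  · exact absurd e h
  · obtain ⟨C⟩ := L.coord a ha.1.1
    obtain ⟨i, hi, ei⟩ := mb_surj C (y := x) ⟨delta_sub hd hx, fun e => ha.1.2.1 e.symm, ha.1.2.2.symm⟩
    obtain ⟨j, hj, ej⟩ := mb_surj C (y := y) ⟨delta_sub hd hy, fun e => ha.2.2.1 e.symm, ha.2.2.2.symm⟩
    rw [← ei, ← ej]
    exact mb_braid C L hi hj (Bool.eq_false_iff.mpr fun ho => h (by
      rw [← ei, ← ej]; exact (mb_comm C hi hj).mpr ho))

include L hd in
theorem cent_le {x : G} (hx : x ∈ Delta D d) : Subgroup.centralizer ({x} : Set G) ≤ Grp D d := by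
  rw [← L.gen x (delta_sub hd hx), Grp, Subgroup.closure_le]
  exact fun y hy => Subgroup.subset_closure (step_mem hd hx hy.1 hy.2.2)

/-- a second point orthogonal to a point -/
def orthMateOK (i : ℕ) : Bool := (List.range 693).any fun j => !Nat.beq j i && orth i j

theorem orth_mate0 : CC.rangeOK orthMateOK 0 693 = true := by decide +kernel

/-- a point not orthogonal to a point -/
def skewMateOK (i : ℕ) : Bool := (List.range 693).any fun j => !orth i j

theorem skew_mate0 : CC.rangeOK skewMateOK 0 693 = true := by decide +kernel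

include L in
theorem skew_member {a y : G} (ha : a ∈ D) (hy : y ∈ nset D a) : ∃ z ∈ nset D a, ¬ Commute y z := by
  obtain ⟨C⟩ := L.coord a ha
  obtain ⟨i, hi, rfl⟩ := mb_surj C hy
  have h := all_range (p := skewMateOK) skew_mate0 (Nat.zero_le _) (show i < 0 + 693 by omega)
  simp only [skewMateOK, List.any_eq_true, List.mem_range, Bool.not_eq_true'] at h
  obtain ⟨j, hj, ho⟩ := h
  exact ⟨mb C j, mb_mem C hj, fun hc => by rw [(mb_comm C hi hj).mp hc] at ho; exact Bool.noConfusion ho⟩

include L hd in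
theorem trans_grp {y : G} (hy : y ∈ Delta D d) : ∃ g ∈ Grp D d, g * d * g⁻¹ = y := by
  induction hy with
  | refl => exact ⟨1, one_mem _, by group⟩
  | @tail p q hdp hpq ih =>
    obtain ⟨g, hg, hgd⟩ := ih
    by_cases hne : p = q
    · exact ⟨g, hg, hgd.trans hne⟩
    obtain ⟨C⟩ := L.coord p hpq.1
    obtain ⟨i, hi, ei⟩ := mb_surj C (y := q) ⟨hpq.2.1, Ne.symm hne, hpq.2.2⟩
    have h := all_range (p := orthMateOK) orth_mate0 (Nat.zero_le _) (show i < 0 + 693 by omega)
    simp only [orthMateOK, List.any_eq_true, List.mem_range, Bool.and_eq_true, Bool.not_eq_true'] at h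
    obtain ⟨j, hj, hji, ho⟩ := h
    set z := mb C j
    obtain ⟨hzD, hzp, hpz⟩ := mb_mem C hj
    have hzq : z ≠ q := fun e => by
      rw [mb_inj C hj hi (e.trans ei.symm), Nat.beq_refl] at hji
      exact Bool.noConfusion hji
    have hqz : Commute q z := by rw [← ei]; exact (mb_comm C hi hj).mpr ho
    obtain ⟨C'⟩ := L.coord z hzD
    obtain ⟨k, hk, ek⟩ := mb_surj C' (y := p) ⟨hpq.1, Ne.symm hzp, hpz.symm⟩
    obtain ⟨l, hl, el⟩ := mb_surj C' (y := q) ⟨hpq.2.1, Ne.symm hzq, hqz.symm⟩
    obtain ⟨w1, hw1, f1⟩ := Pts.from_first hk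
    obtain ⟨w2, hw2, f2⟩ := Pts.from_first hl
    have hw := below_append hw2 (below_rev hw1)
    refine ⟨wordEl C' (w2 ++ w1.reverse) * g, mul_mem ?_ hg, ?_⟩
    · exact cent_le L hd (step_mem hd hdp hzD hpz)
        (Subgroup.mem_centralizer_singleton_iff.mpr (wordEl_comm C' hw).symm.eq)
    · calc _ = wordEl C' (w2 ++ w1.reverse) * (g * d * g⁻¹) * (wordEl C' (w2 ++ w1.reverse))⁻¹ := by group
        _ = q := by
          rw [hgd, ← ek, wordEl_conj C' L hw hk, pev_append, ← f1, pev_rev hw1 (gpt_lt (by norm_num)), f2, el]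

include L hd in
/-- an element carrying d into the component lies in its group -/
theorem mem_grp_of_conj {g : G} (h : g * d * g⁻¹ ∈ Delta D d) : g ∈ Grp D d := by
  obtain ⟨k, hk, hkd⟩ := trans_grp L hd h
  have hc : k⁻¹ * g ∈ Subgroup.centralizer ({d} : Set G) := by
    rw [Subgroup.mem_centralizer_singleton_iff]
    calc k⁻¹ * g * d = k⁻¹ * (g * d * g⁻¹) * g := by group
      _ = k⁻¹ * (k * d * k⁻¹) * g := by rw [hkd]
      _ = d * (k⁻¹ * g) := by group
  have := mul_mem hk (cent_le L hd (d_mem) hc)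
  rwa [mul_inv_cancel_left] at this

include L hd in
theorem grp_stab {g : G} (hg : g ∈ Grp D d) {y : G} (hy : y ∈ Delta D d) :
    g * y * g⁻¹ ∈ Delta D d := by
  rw [Grp] at hg
  induction hg using Subgroup.closure_induction generalizing y with
  | mem u hu =>
    have h1 := delta_conj L u ((delta_symm hu).symm ▸ hy : y ∈ Delta D u)
    rwa [mul_inv_cancel_right, delta_symm hu] at h1
  | one => simpa using hy
  | mul u v _ _ iu iv =>
    rw [show u * v * y * (u * v)⁻¹ = u * (v * y * v⁻¹) * u⁻¹ by group]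
    exact iu (iv hy)
  | inv u hu iu =>
    obtain ⟨k, -, hk⟩ := trans_grp L hd hy
    have h1 : u⁻¹ * d * u⁻¹⁻¹ ∈ Delta D d := by
      have h2 := delta_conj L u⁻¹ ((delta_symm (iu (d_mem (D := D)))).symm ▸ d_mem :
        d ∈ Delta D (u * d * u⁻¹))
      have e : u⁻¹ * (u * d * u⁻¹) * u⁻¹⁻¹ = d := by group
      rwa [e] at h2
    have h2 := delta_conj L u⁻¹ hy
    rwa [delta_symm h1] at h2

/-! ### as a group generated by 3-transpositions -/

include L hd in
theorem dk_three : Cfsg.IsThreeTranspositionGroup (DK D d) := by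
  refine ⟨⟨fun x hx => ?_, fun x hx y hy => ?_⟩, fun g x hx => ?_, ?_⟩
  · rw [← Subgroup.orderOf_coe]; exact L.ord _ (delta_sub hd hx)
  · have hx2 := Spor.mul_self_of_order_two (L.ord _ (delta_sub hd hx))
    have hy2 := Spor.mul_self_of_order_two (L.ord _ (delta_sub hd hy))
    rcases pair_braid L hd hx hy with h | h
    · left
      apply Subtype.ext
      show ((x : G) * y) ^ 2 = 1
      rw [h.mul_pow, pow_two, pow_two, hx2, hy2, one_mul]
    · right
      apply Subtype.ext
      show ((x : G) * y) ^ 3 = 1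
      calc ((x : G) * y) ^ 3 = ((x : G) * y * x) * (y * x * y) := by
            simp only [pow_succ, pow_zero, one_mul, mul_assoc]
        _ = (y * x * y) * (y * x * y) := by rw [h]
        _ = y * x * ((y : G) * y) * x * y := by simp only [mul_assoc]
        _ = 1 := by rw [hy2, mul_one, mul_assoc (y : G) x x, hx2, mul_one, hy2]
  · exact grp_stab L hd g.2 hx
  · exact Subgroup.closure_closure_coe_preimage

include L hd in
theorem dk_trans : ∀ x ∈ DK D d, ∀ y ∈ DK D d, ∃ g : Grp D d, g * x * g⁻¹ = y := by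
  intro x hx y hy
  obtain ⟨g, hg, hgd⟩ := trans_grp L hd hx
  obtain ⟨k, hk, hkd⟩ := trans_grp L hd hy
  refine ⟨⟨k, hk⟩ * ⟨g, hg⟩⁻¹, Subtype.ext ?_⟩
  show k * g⁻¹ * (x : G) * (k * g⁻¹)⁻¹ = y
  rw [← hgd, ← hkd]; group

/-- d inside its group -/
def dd (D : Set G) (d : G) : Grp D d := ⟨d, Subgroup.subset_closure d_mem⟩

include L hd in
theorem dk_conn : (Cfsg.commutingGraph (DK D d)).Connected := by
  have key : ∀ y (hy : y ∈ Delta D d),
      (Cfsg.commutingGraph (DK D d)).Reachable ⟨dd D d, d_mem⟩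
        ⟨⟨y, Subgroup.subset_closure hy⟩, hy⟩ := by
    intro y hy
    induction hy with
    | refl => exact SimpleGraph.Reachable.refl _
    | @tail p q hdp hpq ih =>
      by_cases he : p = q
      · subst he; exact ih
      refine ih.trans (SimpleGraph.Adj.reachable ?_)
      rw [Cfsg.commutingGraph, SimpleGraph.fromRel_adj]
      exact ⟨fun e => he (congrArg (fun z : DK D d => ((z : Grp D d) : G)) e), Or.inl (Subtype.ext hpq.2.2.eq)⟩
  haveI : Nonempty (DK D d) := ⟨⟨dd D d, d_mem⟩⟩
  exact ⟨fun x y => (key _ x.2).symm.trans (key _ y.2)⟩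

include L hd in
theorem dk_center : Subgroup.center (Grp D d) = ⊥ := by
  rw [Subgroup.eq_bot_iff_forall]
  intro z hz
  rw [Subgroup.mem_center_iff] at hz
  have hc : ∀ g : G, Commute g d → Commute g (z : G) := fun g hg =>
    congrArg Subtype.val (hz ⟨g, cent_le L hd d_mem (Subgroup.mem_centralizer_singleton_iff.mpr hg.eq)⟩)
  rcases L.centre d hd z (show Commute (z : G) d from (congrArg Subtype.val (hz (dd D d))).symm) hc with e | e
  · exact Subtype.ext e
  exfalso
  obtain ⟨C⟩ := L.coord d hd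
  obtain ⟨hmD, hmd, hdm⟩ := mb_mem C (gpt_lt (show 0 < 8 by norm_num))
  obtain ⟨y, hy, hny⟩ := skew_member L hmD (y := d) ⟨hd, Ne.symm hmd, hdm.symm⟩
  have hyΔ := step_mem hd (step_mem hd d_mem hmD hdm) hy.1 hy.2.2
  refine hny ?_
  have h := congrArg Subtype.val (hz ⟨y, Subgroup.subset_closure hyΔ⟩)
  rw [← e]
  exact h.symm

include L hd in
/-- a member at distance two -/
theorem exists_far : ∃ a x, a ∈ nset D d ∩ nset D x ∧ x ∈ Delta D d ∧ ¬ Commute d x := by
  obtain ⟨C⟩ := L.coord d hd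
  obtain ⟨hmD, hmd, hdm⟩ := mb_mem C (gpt_lt (show 0 < 8 by norm_num))
  obtain ⟨y, hy, hny⟩ := skew_member L hmD (y := d) ⟨hd, Ne.symm hmd, hdm.symm⟩
  exact ⟨_, y, ⟨⟨hmD, hmd, hdm⟩, ⟨hmD, fun e => hy.2.1 e.symm, hy.2.2.symm⟩⟩,
    step_mem hd (step_mem hd d_mem hmD hdm) hy.1 hy.2.2, hny⟩

/-- members of the group commuting with d and those of the whole -/
noncomputable def nsetEquiv : ↥(nset (DK D d) (dd D d)) ≃ ↥(nset D d) where
  toFun y := ⟨((y : Grp D d) : G), delta_sub hd y.2.1, fun e => y.2.2.1 (Subtype.ext e),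
    congrArg Subtype.val y.2.2.2.eq⟩
  invFun y := ⟨⟨y, Subgroup.subset_closure (step_mem hd d_mem y.2.1 y.2.2.2)⟩,
    step_mem hd d_mem y.2.1 y.2.2.2, fun e => y.2.2.1 (congrArg Subtype.val e), Subtype.ext y.2.2.2.eq⟩
  left_inv _ := rfl
  right_inv _ := rfl

include L hd in
theorem exists_frame : ∃ (F : Frame (DK D d)), (F.a : G) = d := by
  obtain ⟨a, x, ha, hx, hnc⟩ := exists_far L hd
  obtain ⟨C, -, hT⟩ := normal L hd (delta_sub hd hx) ha hnc
  refine ⟨{ three := dk_three L hd
            trans := dk_trans L hd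
            conn := dk_conn L hd
            a := dd D d
            b := ⟨x, Subgroup.subset_closure hx⟩
            ha := d_mem
            hb := hx
            nab := fun h => hnc (congrArg Subtype.val h.eq)
            pi := (nsetEquiv hd).trans C.e
            pi_gen := fun j hj u v w hu hw => ?_
            pi_T := fun y => ?_ }, rfl⟩
  · show (C.e (nsetEquiv hd w) : ℕ) = pim j (C.e (nsetEquiv hd v))
    have hu' : (C.e (nsetEquiv hd u) : ℕ) = gpt j := hu
    rw [C.conj (nsetEquiv hd u) (nsetEquiv hd v) (nsetEquiv hd w) (congrArg Subtype.val hw), hu']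
    exact Sym.gen_timg hj (C.e _).2
  · set k := nsetEquiv hd y with hk
    have e : (⟨x, Subgroup.subset_closure hx⟩ : Grp D d) = ⟨x, Subgroup.subset_closure hx⟩ := rfl
    constructor
    · intro h
      show inT0 (C.e k) = true
      refine (hT _ (C.e k).2).mp ?_
      rw [mb_e C k]
      exact ⟨k.2.1, fun e => hnc (e ▸ k.2.2.2), congrArg Subtype.val h.eq⟩
    · intro h
      have := (hT _ (C.e k).2).mpr h
      rw [mb_e C k] at this
      exact Subtype.ext this.2.2.eq

include L hd in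
theorem iso_fi22 [Finite G] :
    ∃ e : Fi22Cert.pres.Grp ≃* Grp D d, e '' M22U.Fischer.Dc = DK D d := by
  obtain ⟨F, -⟩ := exists_frame L hd
  haveI := Fi22Cert.order.1
  exact exists_equiv_of_frames Fischer.frame F Fischer.center_bot (dk_center L hd)

end Cfsg.Agent.Spor.CentU62
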