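import Cfsg.Agent.Lib.Spor.TSUCount
import Cfsg.Agent.Lib.Spor.M22UNorm

/-!
The conjugates of an involution d whose centraliser is a perfect double cover of PSU(6,2) and which is not
weakly closed there: around each of them the others which commute with it form a copy of the transvections.
-/

set_option autoImplicit false
set_option maxRecDepth 100000
set_option linter.unusedSectionVars false

namespace Cfsg.Agent.Spor.CentU62

open Cfsg.Agent.Small.Unitary Cfsg.Agent.Spor.SpFour
open Cfsg.Agent.Spor.M22U (nset)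
open Cfsg.Agent.Spor.M22U.Sym (timg)
open Cfsg.Agent.Spor.M22U.Norm (Coord)

universe u
variable {G : Type u} [Group G]

/-- the local structure at every member -/
structure Loc (D : Set G) : Prop where
  conj : ∀ g : G, ∀ x ∈ D, g * x * g⁻¹ ∈ D
  ord : ∀ x ∈ D, orderOf x = 2
  trans : ∀ x ∈ D, ∀ y ∈ D, ∃ g : G, g * x * g⁻¹ = y
  coord : ∀ x ∈ D, Nonempty (Coord D x)
  gen : ∀ x ∈ D, Subgroup.closure (nset D x) = Subgroup.centralizer ({x} : Set G)
  centre : ∀ x ∈ D, ∀ z : G, Commute z x → (∀ g : G, Commute g x → Commute g z) → z = 1 ∨ z = x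

theorem timg_symm {x y : ℕ} (hne : herm (M22U.Pts.gv x) (M22U.Pts.gv y) ≠ 0) :
    timg x y = timg y x := by
  set h := herm (M22U.Pts.gv x) (M22U.Pts.gv y) with hh
  have hyx : herm (M22U.Pts.gv y) (M22U.Pts.gv x) = star h := (star_herm _ _).symm
  have hs : star h ≠ 0 := star_ne_zero.mpr hne
  have hn := M22U.Sym.norm_one h hne
  show M22U.Sym.pt6 _ = M22U.Sym.pt6 _
  rw [← hh, hyx]
  have e : M22U.Pts.gv x + star h • M22U.Pts.gv y = star h • (M22U.Pts.gv y + h • M22U.Pts.gv x) := by
    rw [smul_add, smul_smul, hn, one_smul, add_comm]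
  rw [e, M22U.Sym.pt6, M22U.Sym.pt6, SUSix.idx_smul _ hs]

end Cfsg.Agent.Spor.CentU62
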