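import Cfsg.Agent.Lib.Spor.CentU62.Connect
import Cfsg.Agent.Lib.Spor.CentU62.Build
import Cfsg.Agent.Lib.Spor.PSUTransfer
import Cfsg.Agent.Lib.Spor.M23RelShift
import Cfsg.Prelude.Def_SporadicB

/-!
A group with an involution whose centraliser is a perfect double cover of PSU(6,2) and which is not weakly
closed there is Fi22 with the conjugates of the involution as its 3-transpositions.
-/

set_option autoImplicit false
set_option maxRecDepth 100000
set_option linter.unusedSectionVars false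

namespace Cfsg.Agent.Spor.CentU62

open Cfsg.Agent.Spor.SpFour (F4)
open scoped commutatorElement

universe u
variable {G : Type u} [Group G] [Finite G]

theorem setup_of {d : G} (hd : orderOf d = 2)
    (hperf : ⁅(⊤ : Subgroup (TSU.CD d)), (⊤ : Subgroup (TSU.CD d))⁆ = ⊤)
    [hzn : ((Subgroup.zpowers d).subgroupOf (Subgroup.centralizer ({d} : Set G))).Normal] (K : Type) [Field K]
    [Fintype K] (hK : Fintype.card K = 4) (e : (Subgroup.centralizer ({d} : Set G)) ⧸
      (Subgroup.zpowers d).subgroupOf (Subgroup.centralizer ({d} : Set G)) ≃* Cfsg.PSU 6 K 2)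
    (hnwc : ∃ g : G, g * d * g⁻¹ ∈ Subgroup.centralizer ({d} : Set G) ∧ g * d * g⁻¹ ≠ d) :
    ∃ q : TSU.CD d →* TSU.RR, TSU.Setup d q := by
  classical
  have hd2 : d * d = 1 := by rw [← pow_two, ← hd, pow_orderOf_eq_one]
  have hd1 : d ≠ 1 := fun h => by rw [h, orderOf_one] at hd; omega
  let C : Subgroup G := Subgroup.centralizer ({d} : Set G)
  obtain ⟨eU⟩ := Agent.Spor.SUSix.range_equiv
  obtain ⟨φ⟩ : Nonempty (K ≃+* Agent.Spor.SpFour.F4) :=
    ⟨FiniteField.ringEquivOfCardEq (K := K) (K' := Agent.Spor.SpFour.F4)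
      (by rw [hK, Agent.Spor.SpFour.F4.card])⟩
  obtain ⟨eK⟩ := Agent.Spor.PSUTransfer.psu_congr (n := 6) (q := 2) φ
  let E := e.trans eK
  let ψ : ↥C →* Cfsg.PSU 6 Agent.Spor.SpFour.F4 2 := E.toMonoidHom.comp (QuotientGroup.mk' _)
  let q : ↥C →* Agent.Spor.TSU.RR := eU.symm.toMonoidHom.comp ψ
  have hψs : Function.Surjective ψ := E.surjective.comp (QuotientGroup.mk'_surjective _)
  have hψk : ∀ z : ↥C, ψ z = 1 ↔ (z : G) = 1 ∨ (z : G) = d := by
    intro z
    rw [show ψ z = E (QuotientGroup.mk z) from rfl, E.map_eq_one_iff, QuotientGroup.eq_one_iff,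
      Subgroup.mem_subgroupOf]
    constructor
    · intro h
      obtain ⟨k, hk⟩ := Subgroup.mem_zpowers_iff.mp h
      have hd2' : d ^ (2 : ℤ) = 1 := by rw [zpow_two, hd2]
      rcases Int.even_or_odd k with ⟨j, hj⟩ | ⟨j, hj⟩
      · left; rw [← hk, hj, ← two_mul, zpow_mul, hd2', one_zpow]
      · right; rw [← hk, hj, zpow_add, zpow_mul, hd2', one_zpow, one_mul, zpow_one]
    · rintro (h | h) <;> rw [h]
      exacts [one_mem _, Subgroup.mem_zpowers d]
  have hc : ψ.ker ≤ Subgroup.center ↥C := fun z hz => Subgroup.mem_center_iff.mpr fun g => by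
    apply Subtype.ext
    rcases (hψk z).mp hz with h | h
    · simp [h]
    · show (g : G) * z = z * g
      rw [h]
      exact Subgroup.mem_centralizer_singleton_iff.mp g.2
  have h2 : ∀ z ∈ ψ.ker, z * z = 1 := fun z hz => by
    apply Subtype.ext
    rcases (hψk z).mp hz with h | h
    · simp [h]
    · show (z : G) * z = 1
      rw [h, hd2]
  refine ⟨q, eU.symm.surjective.comp hψs, fun z => ?_, hperf, fun x hx => ?_, hd1, hd2, hnwc⟩
  · rw [← hψk]
    exact eU.symm.map_eq_one_iff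
  · obtain ⟨y, hy, hy2⟩ := Agent.Spor.CoverUnitarySix.exists_lift Agent.Spor.SpFour.F4.star_eq_pow ψ hψs
      Agent.Spor.SpFour.F4.card le_rfl hc h2 (x := eU x) (by rw [← map_mul, hx, map_one])
    exact ⟨y, by show eU.symm (ψ y) = x; rw [hy, eU.symm_apply_apply], hy2⟩

theorem cent_conj (g d : G) : (Subgroup.centralizer ({d} : Set G)).map (MulAut.conj g).toMonoidHom =
    Subgroup.centralizer ({g * d * g⁻¹} : Set G) := by
  ext y
  rw [Subgroup.mem_map, Subgroup.mem_centralizer_singleton_iff]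
  constructor
  · rintro ⟨u, hu, rfl⟩
    rw [Subgroup.mem_centralizer_singleton_iff] at hu
    exact (Spor.commute_conj_iff (g := g) (a := u) (b := d)).mpr hu
  · intro hy
    refine ⟨g⁻¹ * y * g, Subgroup.mem_centralizer_singleton_iff.mpr ?_,
      by show g * (g⁻¹ * y * g) * g⁻¹ = y; group⟩
    rw [← commute_iff_eq, ← Spor.commute_conj_iff (g := g), show g * (g⁻¹ * y * g) * g⁻¹ = y by group]
    exact hy

/-- the hypotheses hold at every conjugate -/
theorem cx_of {d : G} {q : TSU.CD d →* TSU.RR} (hs : TSU.Setup d q)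
    (hperf : ⁅(⊤ : Subgroup (TSU.CD d)), (⊤ : Subgroup (TSU.CD d))⁆ = ⊤) : Cx (conjugatesOf d) := by
  have hp : ⁅Subgroup.centralizer ({d} : Set G), Subgroup.centralizer ({d} : Set G)⁆ =
      Subgroup.centralizer ({d} : Set G) := by
    have h := Subgroup.map_commutator (⊤ : Subgroup (TSU.CD d)) ⊤ (Subgroup.centralizer ({d} : Set G)).subtype
    rw [hperf, ← MonoidHom.range_eq_map, Subgroup.range_subtype] at h
    exact h.symm
  refine ⟨loc_of hs, fun x hx => ?_, fun x hx => ?_⟩ <;> obtain ⟨g, rfl⟩ := isConj_iff.mp hx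
  · obtain ⟨φ⟩ := quot_psu hs
    exact ⟨(M23Rel.Shift.cq (((MulAut.conj g).subgroupMap _).trans
      (MulEquiv.subgroupCongr (cent_conj g d)))).symm.trans φ⟩
  · rw [← cent_conj g d, ← Subgroup.map_commutator, hp]

theorem main (d : G) (hd : orderOf d = 2)
    (hperf : ⁅(⊤ : Subgroup (TSU.CD d)), (⊤ : Subgroup (TSU.CD d))⁆ = ⊤)
    [hzn : ((Subgroup.zpowers d).subgroupOf (Subgroup.centralizer ({d} : Set G))).Normal] (K : Type) [Field K]
    [Fintype K] (hK : Fintype.card K = 4) (e : (Subgroup.centralizer ({d} : Set G)) ⧸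
      (Subgroup.zpowers d).subgroupOf (Subgroup.centralizer ({d} : Set G)) ≃* Cfsg.PSU 6 K 2)
    (hnwc : ∃ g : G, g * d * g⁻¹ ∈ Subgroup.centralizer ({d} : Set G) ∧ g * d * g⁻¹ ≠ d) :
    Cfsg.IsThreeTranspositionClass (conjugatesOf d) ∧ Cfsg.IsOfTypeM22 G (conjugatesOf d) ∧
      Cfsg.Spor.IsoFi22 G := by
  obtain ⟨q, hs⟩ := setup_of hd hperf K hK e hnwc
  have X := cx_of hs hperf
  have hdD : d ∈ conjugatesOf d := mem_conjugatesOf_self
  have htop := grp_top X hdD
  have hΔ := delta_eq X hdD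
  let f : Grp (conjugatesOf d) d ≃* G := (MulEquiv.subgroupCongr htop).trans Subgroup.topEquiv
  have hf : ∀ k, f k = (k : G) := fun _ => rfl
  have himg : f '' DK (conjugatesOf d) d = conjugatesOf d := by
    ext y
    constructor
    · rintro ⟨k, hk, rfl⟩
      rw [hf]; exact (Set.ext_iff.mp hΔ _).mp hk
    · intro hy
      have hy' : y ∈ Delta (conjugatesOf d) d := (Set.ext_iff.mp hΔ y).mpr hy
      exact ⟨⟨y, Subgroup.subset_closure hy'⟩, hy', hf _⟩
  have h3 := dk_three X.loc hdD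
  refine ⟨⟨⟨X.loc.ord, fun x hx y hy => ?_⟩, ⟨d, hdD, rfl⟩, ?_⟩,
    himg ▸ M23Rel.Shift.type22_congr f (dk_type X.loc hdD (X.quot d hdD)), ?_⟩
  · rw [← himg] at hx hy
    obtain ⟨x, hx', rfl⟩ := hx
    obtain ⟨y, hy', rfl⟩ := hy
    rcases h3.1.2 x hx' y hy' with h | h
    · exact Or.inl (by rw [← map_mul, ← map_pow, h, map_one])
    · exact Or.inr (by rw [← map_mul, ← map_pow, h, map_one])
  · rw [← hΔ]; exact htop
  · obtain ⟨e', -⟩ := iso_fi22 X.loc hdD
    exact ⟨(e'.trans f).symm⟩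

end Cfsg.Agent.Spor.CentU62
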