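import Cfsg.Agent.Lib.Spor.CentU62.Sixth

/-!
Normal form for a member commuting with two members which do not commute.
-/

set_option autoImplicit false
set_option maxRecDepth 100000
set_option linter.unusedSectionVars false

namespace Cfsg.Agent.Spor.CentU62

open Cfsg.Agent.Small.Unitary Cfsg.Agent.Spor.SpFour
open Cfsg.Agent.Spor.M22U
open Cfsg.Agent.Spor.M22U.Norm (Coord)
open Cfsg.Agent.Spor.CC (all_range)

universe u
variable {G : Type u} [Group G] {D : Set G}

/-- one step of the rule in the group -/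
def gStep (L : List G) (p : ℕ × ℕ) : List G := L ++ [L.getD p.1 1 * L.getD p.2 1 * (L.getD p.1 1)⁻¹]

/-- the members obtained from five -/
def gev (five : List G) : List G := Dat.slp.foldl gStep five

theorem ev_foldl {x : G} (C : Coord D x) (L : Loc D) : ∀ (s : List (ℕ × ℕ)) (l : List ℕ),
    (∀ a ∈ l, a < 693) → (∀ k < s.length, (s.getD k (0, 0)).1 < k + l.length ∧ (s.getD k (0, 0)).2 < k + l.length) →
    (∀ a ∈ s.foldl slpStep l, a < 693) ∧ (s.foldl slpStep l).length = l.length + s.length ∧
      (s.foldl slpStep l).map (mb C) = s.foldl gStep (l.map (mb C))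
  | [], l, hl, _ => ⟨hl, rfl, rfl⟩
  | p :: s, l, hl, hs => by
    have h0 := hs 0 (by simp)
    simp only [List.getD_cons_zero, Nat.zero_add] at h0
    have hm : ∀ i < l.length, l.getD i 0 < 693 ∧ (l.map (mb C)).getD i 1 = mb C (l.getD i 0) := fun i hi => by
      rw [List.getD_eq_getElem _ _ hi, List.getD_eq_getElem _ _ (by rw [List.length_map]; exact hi),
        List.getElem_map]
      exact ⟨hl _ (List.getElem_mem _), rfl⟩
    obtain ⟨a1, a2⟩ := hm _ h0.1
    obtain ⟨b1, b2⟩ := hm _ h0.2
    have hnew : ∀ a ∈ slpStep l p, a < 693 := by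
      intro a ha
      rcases List.mem_append.mp ha with h | h
      · exact hl a h
      · rw [List.mem_singleton.mp h]; exact tm_lt a1 b1
    have hmap : (slpStep l p).map (mb C) = gStep (l.map (mb C)) p := by
      rw [slpStep, gStep, List.map_append, a2, b2, mb_conj C L a1 b1]; rfl
    obtain ⟨r1, r2, r3⟩ := ev_foldl C L s (slpStep l p) hnew (fun k hk => by
      have := hs (k + 1) (by simp only [List.length_cons]; omega)
      simp only [List.getD_cons_succ] at this
      simp only [slpStep, List.length_append, List.length_cons, List.length_nil]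
      omega)
    refine ⟨r1, ?_, ?_⟩
    · rw [List.foldl_cons, r2]
      simp only [slpStep, List.length_append, List.length_cons, List.length_nil]
      omega
    · rw [List.foldl_cons, r3, hmap]; rfl

theorem ev_spec {x : G} (C : Coord D x) (L : Loc D) {five : List ℕ} (h5 : five.length = 5)
    (hlt : ∀ a ∈ five, a < 693) :
    (∀ a ∈ evL five, a < 693) ∧ (evL five).length = 45 ∧ (evL five).map (mb C) = gev (five.map (mb C)) := by
  obtain ⟨h1, h2, h3⟩ := ev_foldl C L Dat.slp five hlt (fun k hk => by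
    rw [slp_ok.1] at hk
    rw [h5]
    exact slp_ok.2.2.2.2.2 k hk)
  exact ⟨h1, by rw [evL, h2, h5, slp_ok.1], h3⟩

/-- the selected five in the group -/
def gpick (L : List G) : List G := Dat.lineIx.map fun i => L.getD i 1

theorem pick_map {x : G} (C : Coord D x) {L : List ℕ} (h : L.length = 45) :
    (pick L).map (mb C) = gpick (L.map (mb C)) := by
  rw [pick, gpick, List.map_map]
  refine List.map_congr_left fun i hi => ?_
  have hi' := slp_ok.2.2.2.1 i hi
  rw [Function.comp_apply, List.getD_eq_getElem _ _ (by omega : i < L.length),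
    List.getD_eq_getElem _ _ (by rw [List.length_map]; omega), List.getElem_map]

theorem pick_mem {L : List ℕ} (h : L.length = 45) : ∀ a ∈ pick L, a ∈ L := by
  intro a ha
  obtain ⟨i, hi, rfl⟩ := List.mem_map.mp ha
  have := slp_ok.2.2.2.1 i hi
  rw [List.getD_eq_getElem _ _ (by omega)]
  exact List.getElem_mem _

/-- the common neighbours of three -/
abbrev common (D : Set G) (d a x : G) : Set G :=
  {y : G | y ∈ nset D d ∩ nset D x ∧ y ≠ a ∧ Commute a y}

/-- the common neighbours come from five of them by a fixed rule -/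
theorem neighbours (L : Loc D) {d a x : G} (hd : d ∈ D) (hx : x ∈ D)
    (ha : a ∈ nset D d ∩ nset D x) (hnc : ¬ Commute d x) :
    ∃ five : List G, five.length = 5 ∧ (gev five).Nodup ∧ (gev five).length = 45 ∧
      (∀ y, y ∈ gev five ↔ y ∈ common D d a x) ∧
      (∀ i < 5, ∀ k < 5, Commute (five.getD i 1) (five.getD k 1) ↔
        orth (five0.getD i 0) (five0.getD k 0) = true) ∧
      (gpick (gev five)).prod = a := by
  obtain ⟨C⟩ := L.coord a ha.1.1
  have hdn : d ∈ nset D a := ⟨hd, fun e => ha.1.2.1 e.symm, ha.1.2.2.symm⟩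
  have hxn : x ∈ nset D a := ⟨hx, fun e => ha.2.2.1 e.symm, ha.2.2.2.symm⟩
  obtain ⟨i, hi, ei⟩ := mb_surj C hdn
  obtain ⟨k, hk, ek⟩ := mb_surj C hxn
  obtain ⟨w1, hw1, e1⟩ := Pts.from_first hi
  obtain ⟨j1, j2⟩ := Pts.jw_ok 4 (by norm_num)
  have hg4 : gpt 4 < 693 := gpt_lt (by norm_num)
  have hg5 : gpt 5 < 693 := gpt_lt (by norm_num)
  set w := w1 ++ (Pts.jw.getD 4 []).reverse
  have hw : below 8 w = true := below_append hw1 (below_rev j1)
  have ew : pev w (gpt 4) = i := by
    rw [pev_append, ← j2, pev_rev j1 (gpt_lt (by norm_num)), e1]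
  have hk' := pev_lt (below_rev hw) hk
  have hno : orth (gpt 4) (pev w.reverse k) = false := by
    rw [← pev_rev hw hg4, ew, orth_pev (below_rev hw) hi hk]
    exact Bool.eq_false_iff.mpr fun h => hnc (by rw [← ei, ← ek]; exact (mb_comm C hi hk).mpr h)
  have hp := all_range (p := pairOK) pair0 (Nat.zero_le _)
    (show pev w.reverse k < 0 + 693 by rw [Nat.zero_add]; exact hk')
  simp only [pairOK, hno, Bool.false_or, Bool.and_eq_true, beq_iff] at hp
  obtain ⟨⟨hv, v4⟩, v5⟩ := hp
  set W := w ++ pairW (pev w.reverse k)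
  have hW : below 8 W = true := below_append hw hv
  have W4 : pev W (gpt 4) = i := by rw [pev_append, v4, ew]
  have W5 : pev W (gpt 5) = k := by rw [pev_append, v5, pev_rev' hw hk]
  set C' := moveW C (below_rev hW)
  have hmove : ∀ u < 693, mb C' u = mb C (pev W u) := by
    intro u hu
    have hu' := pev_lt hW hu
    have e : (C'.e ⟨mb C (pev W u), mb_mem C hu'⟩ : ℕ) = u := by
      show pev W.reverse (C.e ⟨mb C (pev W u), mb_mem C hu'⟩) = u
      rw [e_mb C hu', pev_rev hW hu]
    conv_lhs => rw [← e]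
    exact mb_e C' _
  have e4 : mb C' (gpt 4) = d := by rw [hmove _ hg4, W4, ei]
  have e5 : mb C' (gpt 5) = x := by rw [hmove _ hg5, W5, ek]
  obtain ⟨hsl, hvl, hvlt, -⟩ := slp_ok
  obtain ⟨hlt, hlen, hmap⟩ := ev_spec C' L hvl hvlt
  obtain ⟨hnd, hall, hline, hno45⟩ := std_ok
  rw [nodupN_iff] at hnd
  simp only [List.all_eq_true, Bool.and_eq_true, blt_iff] at hall
  refine ⟨Dat.vals.map (mb C'), by rw [List.length_map, hvl], ?_, ?_, fun y => ?_, fun p hp q hq => ?_, ?_⟩
  · rw [← hmap]; exact hnd.map_on fun p hp q hq h => mb_inj C' (hlt p hp) (hlt q hq) h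
  · rw [← hmap, List.length_map, hlen]
  · rw [← hmap, List.mem_map]
    constructor
    · rintro ⟨v, hv, rfl⟩
      obtain ⟨⟨⟨⟨hvl, o4⟩, o5⟩, o4'⟩, o5'⟩ := hall v hv
      obtain ⟨hD, hna, hca⟩ := mb_mem C' hvl
      refine ⟨⟨⟨hD, fun e => ?_, ?_⟩, ⟨hD, fun e => ?_, ?_⟩⟩, hna, hca⟩
      · rw [← e4] at e
        rw [mb_inj C' hvl hg4 e, hno45] at o5'
        exact Bool.noConfusion o5'
      · rw [← e4]; exact (mb_comm C' hg4 hvl).mpr o4
      · rw [← e5] at e
        rw [mb_inj C' hvl hg5 e, hno45] at o4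
        exact Bool.noConfusion o4
      · rw [← e5]; exact (mb_comm C' hg5 hvl).mpr o5
    · rintro ⟨⟨⟨hyD, hyd, hdy⟩, ⟨-, hyx, hxy⟩⟩, hya, hay⟩
      obtain ⟨v, hv, rfl⟩ := mb_surj C' (y := y) ⟨hyD, hya, hay⟩
      refine ⟨v, ?_, rfl⟩
      have h := all_range (p := comOK) com0' (Nat.zero_le _) (show v < 0 + 693 by omega)
      simp only [comOK, (mb_comm C' hg4 hv).mp (e4.symm ▸ hdy), (mb_comm C' hg5 hv).mp (e5.symm ▸ hxy),
        Bool.and_self, Bool.not_true, Bool.false_or, memN_iff] at h
      exact h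
  · have hpl : p < Dat.vals.length := by omega
    have hql : q < Dat.vals.length := by omega
    rw [List.getD_eq_getElem _ _ (by rw [List.length_map]; exact hpl),
      List.getD_eq_getElem _ _ (by rw [List.length_map]; exact hql), List.getElem_map, List.getElem_map,
      mb_comm C' (hvlt _ (List.getElem_mem _)) (hvlt _ (List.getElem_mem _))]
    have h := List.all_eq_true.mp (List.all_eq_true.mp vals_pattern p (List.mem_range.mpr hp)) q
      (List.mem_range.mpr hq)
    rw [List.getD_eq_getElem _ _ hpl, List.getD_eq_getElem _ _ hql, beq_iff_eq] at h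
    rw [h]
  · rw [← hmap, ← pick_map C' hlen]
    exact five_prod C' L ha.1.1 hline fun p hp => hlt p (pick_mem hlen p hp)

end Cfsg.Agent.Spor.CentU62
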