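import Cfsg.Agent.Lib.Spor.CentU62.Type22
import Cfsg.Agent.Lib.Spor.CentU62.PairChecks
import Cfsg.Agent.Lib.Spor.M22UTriples
import Cfsg.Agent.Lib.Char.ZStar

/-!
The centraliser of a product of two different commuting members lies in the group of their component.
-/

set_option autoImplicit false
set_option maxRecDepth 100000
set_option linter.unusedSectionVars false

namespace Cfsg.Agent.Spor.CentU62

open Cfsg.Agent.Spor.M22U
open Cfsg.Agent.Spor.SpFour (F4)
open Cfsg.Agent.Spor.M22U.Norm (Coord)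
open Cfsg.Agent.Spor.CC (all_range)
open scoped commutatorElement

universe u
variable {G : Type u} [Group G] {D : Set G}

/-- what is known at every member -/
structure Cx (D : Set G) : Prop where
  loc : Loc D
  quot : ∀ x ∈ D, Nonempty (↥(Subgroup.centralizer ({x} : Set G)) ⧸
    Subgroup.center ↥(Subgroup.centralizer ({x} : Set G)) ≃* Cfsg.PSU 6 F4 2)
  perf : ∀ x ∈ D, ⁅Subgroup.centralizer ({x} : Set G), Subgroup.centralizer ({x} : Set G)⁆ =
    Subgroup.centralizer ({x} : Set G)

theorem odd_square {H : Type*} [Group H] {v : H} {n : ℕ} (hn : Odd n) (hv : v ^ n = 1) (h : v = v⁻¹) :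
    v = 1 := by
  have h2 : v * v = 1 := by nth_rewrite 1 [h]; exact inv_mul_cancel v
  obtain ⟨k, rfl⟩ := hn
  rwa [pow_succ, pow_mul, pow_two, h2, one_pow, one_mul] at hv

theorem conj_signs {a v : G} (h : a * v * a⁻¹ = v ∨ a * v * a⁻¹ = v⁻¹) :
    (a * v * a⁻¹ = v ∧ a * v⁻¹ * a⁻¹ = v⁻¹ ∧ a⁻¹ * v * a = v ∧ a⁻¹ * v⁻¹ * a = v⁻¹) ∨
    (a * v * a⁻¹ = v⁻¹ ∧ a * v⁻¹ * a⁻¹ = v ∧ a⁻¹ * v * a = v⁻¹ ∧ a⁻¹ * v⁻¹ * a = v) := by
  rcases h with h | h
  · have e1 : a⁻¹ * v * a = v := by
      calc a⁻¹ * v * a = a⁻¹ * (a * v * a⁻¹) * a := by rw [h]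
        _ = v := by group
    refine Or.inl ⟨h, ?_, e1, ?_⟩
    · calc a * v⁻¹ * a⁻¹ = (a * v * a⁻¹)⁻¹ := by group
        _ = v⁻¹ := by rw [h]
    · calc a⁻¹ * v⁻¹ * a = (a⁻¹ * v * a)⁻¹ := by group
        _ = v⁻¹ := by rw [e1]
  · have e1 : a⁻¹ * v⁻¹ * a = v := by
      calc a⁻¹ * v⁻¹ * a = a⁻¹ * (a * v * a⁻¹) * a := by rw [h]
        _ = v := by group
    refine Or.inr ⟨h, ?_, ?_, e1⟩
    · calc a * v⁻¹ * a⁻¹ = (a * v * a⁻¹)⁻¹ := by group
        _ = v := by rw [h, inv_inv]
    · calc a⁻¹ * v * a = (a⁻¹ * v⁻¹ * a)⁻¹ := by group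
        _ = v⁻¹ := by rw [e1]

variable [Finite G] (X : Cx D) {d : G} (hd : d ∈ D)
include X hd

theorem sq1 {x : G} (hx : x ∈ D) : x * x = 1 := Spor.mul_self_of_order_two (X.loc.ord x hx)

theorem inv1 {x : G} (hx : x ∈ D) : x⁻¹ = x := Spor.inv_of_order_two (X.loc.ord x hx)

theorem pair_unique {e u v : G} (he : e ∈ nset D d) (hu : u ∈ Delta D d) (hv : v ∈ D) (huv : Commute u v)
    (h : u * v = d * e) : u = d ∨ u = e := by
  have hv' := step_mem hd hu hv huv
  have hne : u ≠ v := fun e' => he.2.1 (by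
    rw [e', sq1 X hd hv] at h
    rw [← inv_eq_of_mul_eq_one_right h.symm, inv1 X hd hd])
  have hm := Triples.pair_eq (dk_three X.loc hd) (dk_prim X.loc hd) (dk_type X.loc hd (X.quot d hd))
    (a := dd D d) (b := ⟨e, Subgroup.subset_closure (step_mem hd d_mem he.1 he.2.2)⟩)
    (c := ⟨u, Subgroup.subset_closure hu⟩) (d := ⟨v, Subgroup.subset_closure hv'⟩)
    d_mem (step_mem hd d_mem he.1 he.2.2) hu hv'
    (fun h' => he.2.1 (congrArg Subtype.val h').symm) (fun h' => hne (congrArg Subtype.val h'))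
    (Subtype.ext he.2.2.eq) (Subtype.ext huv.eq) (Subtype.ext h.symm)
    ⟨u, Subgroup.subset_closure hu⟩
  have := hm.mp (by simp)
  simp only [List.mem_cons, List.not_mem_nil, or_false] at this
  rcases this with h' | h'
  · exact Or.inl (congrArg Subtype.val h')
  · exact Or.inr (congrArg Subtype.val h')

variable {e : G} (he : e ∈ nset D d)
include he

/-- a conjugate of d inside the component -/
theorem conj_cases {g : G} (hg : Commute g (d * e)) (h : g * d * g⁻¹ ∈ Delta D d) :
    g * d * g⁻¹ = d ∨ g * d * g⁻¹ = e := by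
  refine pair_unique X hd he h (X.loc.conj g e he.1) (Spor.commute_conj_iff.mpr he.2.2) ?_
  calc g * d * g⁻¹ * (g * e * g⁻¹) = g * (d * e) * g⁻¹ := by group
    _ = d * e := by rw [hg.eq, mul_inv_cancel_right]

theorem w_facts : (d * e) * (d * e) = 1 ∧ d * e ≠ 1 ∧ d * e ≠ d ∧ Commute d (d * e) := by
  refine ⟨?_, fun h => he.2.1 ?_, fun h => ?_, (Commute.refl d).mul_right he.2.2⟩
  · rw [he.2.2.symm.mul_mul_mul_comm, sq1 X hd hd, sq1 X hd he.1, one_mul]
  · rw [← inv_eq_of_mul_eq_one_right h, inv1 X hd hd]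
  · rw [mul_eq_left] at h
    have := X.loc.ord e he.1
    rw [h, orderOf_one] at this
    omega

/-- a conjugate of d under the centraliser of the product which commutes with d modulo it -/
theorem isolated {g : G} (hg : Commute g (d * e))
    (h : d * (g * d * g⁻¹) = (g * d * g⁻¹) * d ∨ d * (g * d * g⁻¹) = (g * d * g⁻¹) * d * (d * e)) :
    g * d * g⁻¹ = d ∨ g * d * g⁻¹ = e := by
  set y := g * d * g⁻¹ with hy
  have hyD : y ∈ D := X.loc.conj g d hd
  rcases h with h | h
  · exact conj_cases X hd he hg (step_mem hd d_mem hyD h)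
  exfalso
  obtain ⟨hw2, hw1, -, hdw⟩ := w_facts X hd he
  have hyw : Commute y (d * e) := by
    show y * (d * e) = d * e * y
    calc y * (d * e) = g * d * (g⁻¹ * (d * e) * g) * g⁻¹ := by rw [hy]; group
      _ = g * (d * (d * e)) * g⁻¹ := by
          rw [show g⁻¹ * (d * e) * g = d * e by rw [mul_assoc, ← hg.eq, inv_mul_cancel_left]]; group
      _ = g * ((d * e) * d) * g⁻¹ := by rw [hdw.eq]
      _ = (g * (d * e) * g⁻¹) * (g * d * g⁻¹) := by group
      _ = d * e * y := by rw [hg.eq, mul_inv_cancel_right, hy]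
  -- y moves d to e
  have hyd : y * d * y⁻¹ = e := by
    rw [inv1 X hd hyD]
    have e1 : y * d * y = y * (d * y) := mul_assoc _ _ _
    rw [e1, h]
    calc y * (y * d * (d * e)) = (y * y) * (d * d) * e := by simp only [mul_assoc]
      _ = e := by rw [sq1 X hd hyD, sq1 X hd hd, one_mul, one_mul]
  have hK : y ∈ Delta D d := by
    have hyK := mem_grp_of_conj X.loc hd (g := y) (hyd ▸ step_mem hd d_mem he.1 he.2.2)
    have hyK' : g * d * g⁻¹ ∈ Grp D d := hyK
    haveI := Fi22Cert.order.1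
    obtain ⟨u, hu, huy⟩ := Classes.exists_commute (dk_three X.loc hd) (dk_prim X.loc hd)
      (dk_type X.loc hd (X.quot d hd)) (u := (⟨y, hyK⟩ : Grp D d))
      (by rw [← Subgroup.orderOf_coe]; exact X.loc.ord y hyD)
    exact step_mem hd hu hyD (congrArg Subtype.val huy.eq)
  rcases pair_braid X.loc hd d_mem hK with hc | hb
  · rw [hc.eq, left_eq_mul] at h
    exact hw1 h
  · have he' : e = d * y * d := by rw [hb, ← hyd, inv1 X hd hyD]
    have : Commute d y := by
      have hc := he.2.2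
      rw [he'] at hc
      have h' := hc.eq
      show d * y = y * d
      calc d * y = (d * d) * (d * y * d) * d := by simp only [← mul_assoc, sq1 X hd hd, one_mul, mul_assoc, mul_one]
        _ = d * (d * (d * y * d)) * d := by simp only [mul_assoc]
        _ = d * ((d * y * d) * d) * d := by rw [h']
        _ = (d * d) * y * ((d * d) * d) := by simp only [mul_assoc]
        _ = y * d := by rw [sq1 X hd hd, one_mul, one_mul]
    rw [this.eq, left_eq_mul] at h
    exact hw1 h

omit he in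
theorem odd_exact {a b z : G} {n : ℕ} (hn : Odd n) (hz : z * z = 1) (ha : a ^ n = 1) (hb : b ^ n = 1)
    (hc : Commute b z) (h : a = b ∨ a = b * z) : a = b := by
  rcases h with h | h
  · exact h
  obtain ⟨k, rfl⟩ := hn
  rw [h, hc.mul_pow, hb, one_mul, pow_succ, pow_mul, pow_two, hz, one_pow, one_mul] at ha
  rw [h, ha, mul_one]

/-- an element fixing d, e and all members commuting with both has order dividing four -/
theorem fix_around {v : G} (hvd : Commute v d) (hve : Commute v e)
    (hb : ∀ b ∈ nset D d ∩ nset D e, Commute v b) : v * v = 1 ∨ v * v = d := by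
  obtain ⟨C⟩ := X.loc.coord d hd
  obtain ⟨ie, hie, eie⟩ := mb_surj C he
  have hvdd : v * d * v⁻¹ = d := by rw [hvd.eq, mul_inv_cancel_right]
  have himg : ∀ i < 693, ∃ j < 693, mb C j = v * mb C i * v⁻¹ := by
    intro i hi
    obtain ⟨h1, h2, h3⟩ := mb_mem C hi
    refine mb_surj C ⟨X.loc.conj v _ h1, fun h => h2 (mul_left_cancel (mul_right_cancel (h.trans hvdd.symm))), ?_⟩
    have h' := (Spor.commute_conj_iff (g := v)).mpr h3
    rwa [hvdd] at h'
  have hfix : ∀ i < 693, orth ie i = true → v * mb C i * v⁻¹ = mb C i := by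
    intro i hi ho
    by_cases he' : mb C i = e
    · rw [he', hve.eq, mul_inv_cancel_right]
    · have hm := mb_mem C hi
      rw [(hb _ ⟨hm, hm.1, he', eie ▸ (mb_comm C hie hi).mpr ho⟩).eq, mul_inv_cancel_right]
  refine X.loc.centre d hd _ (hvd.mul_left hvd) fun g hg => ?_
  have hle : Subgroup.centralizer ({d} : Set G) ≤ Subgroup.centralizer ({v * v} : Set G) := by
    rw [← X.loc.gen d hd, Subgroup.closure_le]
    intro y hy
    obtain ⟨i, hi, rfl⟩ := mb_surj C hy
    rw [SetLike.mem_coe, Subgroup.mem_centralizer_singleton_iff]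
    suffices h : v * (v * mb C i * v⁻¹) * v⁻¹ = mb C i by
      rw [← mul_inv_eq_iff_eq_mul.mp (show v * v * mb C i * (v * v)⁻¹ = mb C i from (show _ = v * (v * mb C i * v⁻¹) * v⁻¹ by group).trans h)]
    by_cases ho : orth ie i = true
    · rw [hfix i hi ho, hfix i hi ho]
    -- the image of an outside point is one of two
    obtain ⟨w1, hw1, e1⟩ := Pts.from_first hie
    obtain ⟨j1, j2⟩ := Pts.jw_ok 4 (by norm_num)
    have hg4 : gpt 4 < 693 := gpt_lt (by norm_num)
    have hg5 : gpt 5 < 693 := gpt_lt (by norm_num)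
    set w := w1 ++ (Pts.jw.getD 4 []).reverse
    have hw : below 8 w = true := below_append hw1 (below_rev j1)
    have ew : pev w (gpt 4) = ie := by rw [pev_append, ← j2, pev_rev j1 (gpt_lt (by norm_num)), e1]
    have hk' := pev_lt (below_rev hw) hi
    have hno : orth (gpt 4) (pev w.reverse i) = false := by
      rw [← pev_rev hw hg4, ew, orth_pev (below_rev hw) hie hi]
      exact Bool.eq_false_iff.mpr ho
    have hp := all_range (p := pairOK) pair0 (Nat.zero_le _)
      (show pev w.reverse i < 0 + 693 by rw [Nat.zero_add]; exact hk')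
    simp only [pairOK, hno, Bool.false_or, Bool.and_eq_true, beq_iff] at hp
    obtain ⟨⟨hv', v4⟩, v5⟩ := hp
    set W := w ++ pairW (pev w.reverse i)
    have hW : below 8 W = true := below_append hw hv'
    have W4 : pev W (gpt 4) = ie := by rw [pev_append, v4, ew]
    have W5 : pev W (gpt 5) = i := by rw [pev_append, v5, pev_rev' hw hi]
    obtain ⟨j, hj, ej⟩ := himg i hi
    have hsame : ∀ z < 693, orth ie z = true → orth j z = orth i z := by
      intro z hz hoz
      rw [Bool.eq_iff_iff, ← mb_comm C hj hz, ← mb_comm C hi hz, ej]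
      conv_lhs => rw [← hfix z hz hoz, Spor.commute_conj_iff]
    have hcase : j = i ∨ j = tm ie i := by
      have hjW := pev_lt (below_rev hW) hj
      have ht := all_range (p := twinOK) twin0 (Nat.zero_le _)
        (show pev W.reverse j < 0 + 693 by rw [Nat.zero_add]; exact hjW)
      simp only [twinOK, Bool.or_eq_true, beq_iff, List.any_eq_true, List.mem_range, Bool.and_eq_true,
        Bool.not_eq_true', beq_eq_false_iff_ne] at ht
      rcases ht with (h | h) | ⟨z, hz, hz4, hne⟩
      · left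
        rw [← pev_rev' hW hj, h, W5]
      · right
        rw [← pev_rev' hW hj, h, tm_pev hW hg4 hg5, W4, W5]
      · exfalso
        apply hne
        have hzW := pev_lt hW hz
        rw [← orth_pev hW hg5 hz, W5, ← orth_pev hW hjW hz, pev_rev' hW hj]
        exact (hsame _ hzW (by rw [← W4, orth_pev hW hg4 hz]; exact hz4)).symm
    rw [← ej]
    rcases hcase with rfl | rfl
    · rw [ej, ← ej]; exact ej.symm
    · have hc : v * e * v⁻¹ = e := by rw [hve.eq, mul_inv_cancel_right]
      rw [← mb_conj C X.loc hie hi] at ej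
      rw [eie] at ej
      rw [← mb_conj C X.loc hie hi, eie]
      calc v * (e * mb C i * e⁻¹) * v⁻¹ = (v * e * v⁻¹) * (v * mb C i * v⁻¹) * (v * e * v⁻¹)⁻¹ := by group
        _ = e * (e * mb C i * e⁻¹) * e⁻¹ := by rw [hc, ej]
        _ = (e * e) * mb C i * (e * e)⁻¹ := by group
        _ = mb C i := by rw [sq1 X hd he.1]; group
  exact Subgroup.mem_centralizer_singleton_iff.mp (hle (Subgroup.mem_centralizer_singleton_iff.mpr hg.eq))

/-- the third member of a line separates -/
theorem exists_sep {b c : G} (hb : b ∈ nset D d ∩ nset D e) (hc : c ∈ nset D d ∩ nset D e)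
    (hbc : ¬ Commute b c) :
    ∃ b2 ∈ nset D d ∩ nset D e, Commute b b2 ∧ ¬ Commute b2 c ∧ b2 ≠ b := by
  obtain ⟨C⟩ := X.loc.coord d hd
  obtain ⟨ie, hie, eie⟩ := mb_surj C he
  obtain ⟨ib, hib, eib⟩ := mb_surj C hb.1
  obtain ⟨ic, hic, eic⟩ := mb_surj C hc.1
  have hne : ie ≠ ib := fun h => hb.2.2.1 (by rw [← eib, ← eie, h])
  obtain ⟨w, hw, e1, e2⟩ := two_move hie hib ((mb_comm C hie hib).mp (by rw [eie, eib]; exact hb.2.2.2)) hne
  have hr := below_rev hw
  have hl := line0_ok.2.2.1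
  have hlo := line0_ok.2.2.2
  have m2 : TDat.line.getD 0 0 ∈ line0 := by simp [line0]
  have hk' := pev_lt hr hic
  have hk := all_range (p := sepLineOK) sep_line0 (Nat.zero_le _)
    (show pev w.reverse ic < 0 + 693 by rw [Nat.zero_add]; exact hk')
  have o1 : orth Tuples.p0 (pev w.reverse ic) = true := by
    rw [← orth_pev hw Tuples.p0_lt hk', e1, pev_rev' hw hic]
    exact (mb_comm C hie hic).mp (by rw [eie, eic]; exact hc.2.2.2)
  have o2 : orth TDat.q0 (pev w.reverse ic) = false := by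
    rw [← orth_pev hw Tuples.base_ok.1 hk', e2, pev_rev' hw hic]
    exact Bool.eq_false_iff.mpr fun h => hbc (by rw [← eib, ← eic]; exact (mb_comm C hib hic).mpr h)
  simp only [sepLineOK, o1, o2, Bool.not_false, Bool.and_self, Bool.not_true, Bool.false_or,
    Bool.not_eq_true'] at hk
  set k := pev w (TDat.line.getD 0 0)
  have hkl : k < 693 := pev_lt hw (hl _ m2)
  have hk2 : ∀ u ∈ line0, orth (pev w u) k = true := fun u hu => by
    rw [orth_pev hw (hl u hu) (hl _ m2)]; exact hlo u hu _ m2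
  refine ⟨mb C k, ⟨mb_mem C hkl, (mb_mem C hkl).1, fun h => ?_, ?_⟩, ?_, ?_, fun h => ?_⟩
  · rw [← eie] at h
    have h' := mb_inj C hkl hie h
    rw [← e1] at h'
    have := pev_inj hw (hl _ m2) Tuples.p0_lt h'
    have hne' : TDat.line.getD 0 0 ≠ Tuples.p0 := by decide +kernel
    exact hne' this
  · rw [← eie]; exact (mb_comm C hie hkl).mpr (e1 ▸ hk2 _ (by simp [line0]))
  · rw [← eib]; exact (mb_comm C hib hkl).mpr (e2 ▸ hk2 _ (by simp [line0]))
  · intro h
    rw [← eic, mb_comm C hkl hic] at h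
    rw [← pev_rev' hw hic, orth_pev hw (hl _ m2) hk', hk] at h
    exact Bool.noConfusion h
  · rw [← eib] at h
    have h' := mb_inj C hkl hib h
    rw [← e2] at h'
    have := pev_inj hw (hl _ m2) Tuples.base_ok.1 h'
    have hne' : TDat.line.getD 0 0 ≠ TDat.q0 := by decide +kernel
    exact hne' this

/-- members commuting with d and e invert elements of odd order which d inverts and which centralise de -/
theorem odd_inverted : (∀ v : G, Odd (orderOf v) → Commute v (d * e) → d * v * d = v⁻¹ →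
      ∀ b ∈ nset D d ∩ nset D e, b * v * b = v⁻¹) ∧
    ∀ g : G, Commute g (d * e) → ∃ v : G, Odd (orderOf v) ∧ Commute v (d * e) ∧ d * v * d = v⁻¹ ∧
      (v = 1 → g ∈ Grp D d) := by
  obtain ⟨hw2, hw1, hwd, hdw⟩ := w_facts X hd he
  set w := d * e with hwdef
  set Cw := Subgroup.centralizer ({w} : Set G)
  set Z := (Subgroup.zpowers w).subgroupOf Cw
  have hZmem : ∀ z : Cw, z ∈ Z ↔ (z : G) = 1 ∨ (z : G) = w := by
    intro z
    rw [Subgroup.mem_subgroupOf, Subgroup.mem_zpowers_iff]
    constructor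
    · rintro ⟨k, hk⟩
      rcases Int.even_or_odd' k with ⟨m, rfl | rfl⟩
      · left; rw [← hk, zpow_mul, zpow_two, hw2, one_zpow]
      · right; rw [← hk, zpow_add, zpow_mul, zpow_two, hw2, one_zpow, one_mul, zpow_one]
    · rintro (h | h)
      · exact ⟨0, by rw [h, zpow_zero]⟩
      · exact ⟨1, by rw [h, zpow_one]⟩
  haveI hZn : Z.Normal := ⟨fun z hz g => by
    rw [hZmem] at hz ⊢
    rcases hz with h | h
    · left; show (g : G) * z * (g : G)⁻¹ = 1; rw [h]; group
    · right; show (g : G) * z * (g : G)⁻¹ = w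
      rw [h, Subgroup.mem_centralizer_singleton_iff.mp g.2, mul_inv_cancel_right]⟩
  let ρ : Cw →* Cw ⧸ Z := QuotientGroup.mk' Z
  have hρ : ∀ a b : Cw, ρ a = ρ b ↔ (a : G) = b ∨ (a : G) = b * w := by
    intro a b
    rw [show ρ a = QuotientGroup.mk a from rfl, show ρ b = QuotientGroup.mk b from rfl, eq_comm,
      QuotientGroup.eq, hZmem]
    constructor
    · rintro (h | h)
      · exact Or.inl (inv_mul_eq_one.mp h).symm
      · exact Or.inr (inv_mul_eq_iff_eq_mul.mp h)
    · rintro (h | h)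
      · left; show (b : G)⁻¹ * a = 1; rw [h, inv_mul_cancel]
      · right; show (b : G)⁻¹ * a = w; rw [h, inv_mul_cancel_left]
  have hcw : ∀ a : Cw, Commute (a : G) w := fun a => Subgroup.mem_centralizer_singleton_iff.mp a.2
  let dw : Cw := ⟨d, Subgroup.mem_centralizer_singleton_iff.mpr hdw.eq⟩
  set t := ρ dw with ht
  have ht1 : t ≠ 1 := fun h => by
    rw [ht, ← map_one ρ, hρ] at h
    rcases h with h | h
    · have := X.loc.ord d hd; rw [show d = 1 from h, orderOf_one] at this; omega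
    · exact hwd (by simpa using h.symm)
  have htt : t * t = 1 := by
    rw [ht, ← map_mul, show dw * dw = 1 from Subtype.ext (sq1 X hd hd), map_one]
  have hiso : Cfsg.IsIsolatedInvolution t := by
    refine ⟨orderOf_eq_prime (by rw [pow_two]; exact htt) ht1, fun q hq => ?_⟩
    obtain ⟨g, rfl⟩ := QuotientGroup.mk'_surjective Z q
    change Commute t (ρ g * t * (ρ g)⁻¹) at hq
    show ρ g * t * (ρ g)⁻¹ = t
    rw [ht, ← map_inv, ← map_mul, ← map_mul] at hq ⊢
    have h' := hq.eq
    rw [← map_mul, ← map_mul, hρ] at h'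
    rw [hρ]
    rcases isolated X hd he (hcw g) h' with h1 | h1
    · exact Or.inl h1
    · right
      show (g : G) * d * (g : G)⁻¹ = d * w
      rw [h1, hwdef, ← mul_assoc, sq1 X hd hd, one_mul]
  have hz := Char.zStar_isolated hiso
  set U := Cfsg.oddCore (Cw ⧸ Z) with hU
  have hUn : U.Normal := Solv.pPrimeCore_normal 2
  have hUodd : ∀ r ∈ U, Odd (orderOf r) := fun r hr =>
    Odd.of_dvd_nat (Char.card_oddCore_odd _) (Subgroup.orderOf_dvd_natCard U hr)
  -- lifts of odd order
  have hlift : ∀ r ∈ U, ∃ v : Cw, ρ v = r ∧ (v : G) ^ orderOf r = 1 := by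
    intro r hr
    obtain ⟨v, rfl⟩ := QuotientGroup.mk'_surjective Z r
    obtain ⟨k, hk⟩ := hUodd _ hr
    have h1 : ρ (v ^ orderOf (ρ v)) = ρ 1 := by rw [map_pow, pow_orderOf_eq_one, map_one]
    rw [hρ] at h1
    rcases h1 with h1 | h1
    · exact ⟨v, rfl, h1⟩
    · let ww : Cw := ⟨w, Subgroup.mem_centralizer_singleton_iff.mpr rfl⟩
      refine ⟨v * ww, ?_, ?_⟩
      · show ρ (v * ww) = ρ v
        rw [hρ]; exact Or.inr rfl
      · show ((v : G) * w) ^ orderOf (ρ v) = 1
        rw [(hcw v).mul_pow, show (v : G) ^ orderOf (ρ v) = 1 * w from h1, hk, pow_succ, pow_mul, pow_two,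
          hw2, one_pow, one_mul, hw2]
  -- nothing in the core commutes with the image of d
  have hCt : ∀ r ∈ U, Commute r t → r = 1 := by
    intro r hr hrt
    obtain ⟨v, rfl, hvn⟩ := hlift r hr
    have hn := hUodd _ hr
    have hvd : Commute (v : G) d := by
      have h := hrt.eq
      rw [ht, ← map_mul, ← map_mul, hρ] at h
      have e1 : (v : G) * d * (v : G)⁻¹ = d ∨ (v : G) * d * (v : G)⁻¹ = d * w := by
        rcases h with h | h
        · left; rw [show (v : G) * d = d * v from h, mul_inv_cancel_right]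
        · right
          rw [show (v : G) * d = d * v * w from h, mul_assoc d, (hcw v).eq]
          group
      rcases e1 with e1 | e1
      · exact mul_inv_eq_iff_eq_mul.mp e1
      exfalso
      have hvw : ∀ k : ℕ, (v : G) ^ k * d * ((v : G) ^ k)⁻¹ = d * w ^ k := by
        intro k
        induction k with
        | zero => simp
        | succ k ih =>
          calc (v : G) ^ (k + 1) * d * ((v : G) ^ (k + 1))⁻¹ = (v : G) * ((v : G) ^ k * d * ((v : G) ^ k)⁻¹) * (v : G)⁻¹ := by
                rw [pow_succ']; group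
            _ = ((v : G) * d * (v : G)⁻¹) * ((v : G) * w ^ k * (v : G)⁻¹) := by rw [ih]; group
            _ = d * w * w ^ k := by rw [e1, ((hcw v).pow_right k).eq, mul_inv_cancel_right]
            _ = _ := by rw [mul_assoc, ← pow_succ']
      have := hvw (orderOf (ρ v))
      obtain ⟨k, hk⟩ := hn
      rw [hvn, hk, pow_succ, pow_mul, pow_two, hw2, one_pow, one_mul, one_mul, inv_one, mul_one,
        left_eq_mul] at this
      exact hw1 this
    have hve : Commute (v : G) e := by
      have := hvd.mul_right (hcw v)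
      rwa [hwdef, ← mul_assoc, sq1 X hd hd, one_mul] at this
    have hvall : ∀ b ∈ nset D d ∩ nset D e, Commute (v : G) b := by
      intro b hb
      set b' := (v : G) * b * (v : G)⁻¹ with hb'
      have hb'm : b' ∈ nset D d ∩ nset D e := by
        have e1 : (v : G) * d * (v : G)⁻¹ = d := by rw [hvd.eq, mul_inv_cancel_right]
        have e2 : (v : G) * e * (v : G)⁻¹ = e := by rw [hve.eq, mul_inv_cancel_right]
        refine ⟨⟨X.loc.conj _ _ hb.1.1, fun h => hb.1.2.1 (mul_left_cancel (mul_right_cancel (h.trans e1.symm))), ?_⟩,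
          X.loc.conj _ _ hb.1.1, fun h => hb.2.2.1 (mul_left_cancel (mul_right_cancel (h.trans e2.symm))), ?_⟩
        · rw [← e1]; exact Spor.commute_conj_iff.mpr hb.1.2.2
        · rw [← e2]; exact Spor.commute_conj_iff.mpr hb.2.2.2
      have inW : ∀ y ∈ nset D d ∩ nset D e, y ∈ Cw := fun y hy =>
        Subgroup.mem_centralizer_singleton_iff.mpr (hy.1.2.2.symm.mul_right hy.2.2.2.symm).eq
      let R : Subgroup (Cw ⧸ Z) := U ⊓ Subgroup.centralizer {t}
      have inR : ∀ y : ↥(nset D d ∩ nset D e), ∀ q ∈ R, ρ ⟨y, inW y y.2⟩ * q * (ρ ⟨y, inW y y.2⟩)⁻¹ ∈ R := by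
        intro y q hq
        refine ⟨hUn.conj_mem q hq.1 _, Subgroup.mem_centralizer_singleton_iff.mpr ?_⟩
        have hyt : Commute (ρ ⟨y, inW y y.2⟩) t :=
          (show Commute (⟨y, inW y y.2⟩ : Cw) dw from Subtype.ext y.2.1.2.2.symm.eq).map ρ
        exact ((hyt.mul_left (Subgroup.mem_centralizer_singleton_iff.mp hq.2 : Commute q t)).mul_left hyt.inv_left).eq
      have hsmall : ∀ y z : ↥(nset D d ∩ nset D e), ρ ⟨y, inW y y.2⟩ * ρ ⟨z, inW z z.2⟩ ∈ R →
          Commute (y : G) z → (y : G) = z := by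
        intro y z hyz hc
        have hsq : (ρ ⟨y, inW y y.2⟩ * ρ ⟨z, inW z z.2⟩) * (ρ ⟨y, inW y y.2⟩ * ρ ⟨z, inW z z.2⟩) = 1 := by
          rw [← map_mul, ← map_mul, ← map_one ρ]
          refine congrArg ρ (Subtype.ext ?_)
          show (y : G) * z * (y * z) = 1
          rw [hc.symm.mul_mul_mul_comm, sq1 X hd y.2.1.1, sq1 X hd z.2.1.1, one_mul]
        have h1 : ρ ⟨y, inW y y.2⟩ * ρ ⟨z, inW z z.2⟩ = 1 :=
          odd_square (hUodd _ hyz.1) (pow_orderOf_eq_one _) (eq_inv_of_mul_eq_one_left hsq)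
        rw [← map_mul, ← map_one ρ, hρ] at h1
        rcases h1 with h1 | h1
        · rw [← inv_eq_of_mul_eq_one_right (show (y : G) * z = 1 from h1), inv1 X hd y.2.1.1]
        · exfalso
          rcases pair_unique X hd he (step_mem hd d_mem y.2.1.1 y.2.1.2.2) z.2.1.1 hc
            (by simpa using h1) with h2 | h2
          · exact y.2.1.2.1 h2
          · exact y.2.2.2.1 h2
      have hrR : ρ v ∈ R := ⟨hr, Subgroup.mem_centralizer_singleton_iff.mpr hrt.eq⟩
      have h0 : ρ ⟨b, inW b hb⟩ * ρ ⟨b', inW b' hb'm⟩ ∈ R := by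
        have h := R.mul_mem (inR ⟨b, hb⟩ _ hrR) (R.inv_mem hrR)
        have e1 : ρ ⟨b', inW b' hb'm⟩ = ρ v * ρ ⟨b, inW b hb⟩ * (ρ v)⁻¹ := by
          rw [← map_inv, ← map_mul, ← map_mul]; rfl
        have e2 : (ρ ⟨b, inW b hb⟩)⁻¹ = ρ ⟨b, inW b hb⟩ := by
          rw [← map_inv]; exact congrArg ρ (Subtype.ext (inv1 X hd hb.1.1))
        rw [e2] at h
        rw [e1]
        simpa only [mul_assoc] using h
      by_cases hc : Commute b b'
      · have := hsmall ⟨b, hb⟩ ⟨b', hb'm⟩ h0 hc
        exact mul_inv_eq_iff_eq_mul.mp (this.symm : (v : G) * b * (v : G)⁻¹ = b)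
      exfalso
      obtain ⟨b2, hb2, hbb2, hb2c, hne⟩ := exists_sep X hd he hb hb'm hc
      set B := ρ ⟨b, inW b hb⟩
      set B' := ρ ⟨b', inW b' hb'm⟩
      set B2 := ρ ⟨b2, inW b2 hb2⟩
      have hB : B * B = 1 := by
        rw [← map_mul, ← map_one ρ]; exact congrArg ρ (Subtype.ext (sq1 X hd hb.1.1))
      have hB' : B' * B' = 1 := by
        rw [← map_mul, ← map_one ρ]; exact congrArg ρ (Subtype.ext (sq1 X hd hb'm.1.1))
      have hB2 : B2 * B2 = 1 := by
        rw [← map_mul, ← map_one ρ]; exact congrArg ρ (Subtype.ext (sq1 X hd hb2.1.1))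
      have hBB2 : B * B2 = B2 * B := by
        rw [← map_mul, ← map_mul]; exact congrArg ρ (Subtype.ext hbb2.eq)
      have hbraid : B2 * B' * B2 = B' * B2 * B' := by
        rw [← map_mul, ← map_mul, ← map_mul, ← map_mul]
        refine congrArg ρ (Subtype.ext ?_)
        exact (pair_braid X.loc hd (step_mem hd d_mem hb2.1.1 hb2.1.2.2)
          (step_mem hd d_mem hb'm.1.1 hb'm.1.2.2)).resolve_left hb2c
      -- three steps inside R
      have h1 : (B * B')⁻¹ * (B2 * (B * B') * B2⁻¹) ∈ R := R.mul_mem (R.inv_mem h0) (inR ⟨b2, hb2⟩ _ h0)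
      have h2 : B2 * B' ∈ R := by
        have e1 : (B * B')⁻¹ * (B2 * (B * B') * B2⁻¹) = B2 * B' := by
          rw [_root_.mul_inv_rev, inv_eq_of_mul_eq_one_right hB, inv_eq_of_mul_eq_one_right hB',
            inv_eq_of_mul_eq_one_right hB2]
          calc B' * B * (B2 * (B * B') * B2) = B' * (B * B2) * B * B' * B2 := by simp only [mul_assoc]
            _ = B' * B2 * (B * B) * B' * B2 := by rw [hBB2]; simp only [mul_assoc]
            _ = (B' * B2 * B') * B2 := by rw [hB, mul_one]
            _ = B2 * B' * (B2 * B2) := by rw [← hbraid]; simp only [mul_assoc]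
            _ = B2 * B' := by rw [hB2, mul_one]
        exact e1 ▸ h1
      have h3 : B * B2 ∈ R := by
        have e1 : B * B2 = (B * B') * (B2 * B')⁻¹ := by
          rw [_root_.mul_inv_rev, inv_eq_of_mul_eq_one_right hB', inv_eq_of_mul_eq_one_right hB2,
            mul_assoc, ← mul_assoc B' B' B2, hB', one_mul]
        rw [e1]; exact R.mul_mem h0 (R.inv_mem h2)
      exact hne (hsmall ⟨b, hb⟩ ⟨b2, hb2⟩ h3 hbb2).symm
    have h4 := fix_around X hd he hvd hve hvall
    have hv1 : (v : G) = 1 := by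
      refine odd_square hn hvn ?_
      have hd2 : (v : G) * v * ((v : G) * v) = 1 := by
        rcases h4 with h | h <;> rw [h]
        · exact one_mul 1
        · exact sq1 X hd hd
      have hsq : (v : G) * v = 1 := by
        refine odd_square hn ?_ (eq_inv_of_mul_eq_one_left hd2)
        rw [← pow_two, ← pow_mul, mul_comm, pow_mul, hvn, one_pow]
      exact eq_inv_of_mul_eq_one_left hsq
    rw [show v = 1 from Subtype.ext hv1, map_one]
  -- inversion by fixed-point-free involutions
  have hinv : ∀ s : Cw ⧸ Z, s * s = 1 → (∀ r ∈ U, Commute r s → r = 1) → ∀ r ∈ U, s * r * s = r⁻¹ := by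
    intro s hs hfree r hr
    have hsi : s⁻¹ = s := inv_eq_of_mul_eq_one_right hs
    let f : ↥U → ↥U := fun p => ⟨(p : Cw ⧸ Z)⁻¹ * (s * p * s⁻¹), U.mul_mem (U.inv_mem p.2) (hUn.conj_mem _ p.2 s)⟩
    have hf : Function.Injective f := by
      intro p p' h
      have h' : (p : Cw ⧸ Z)⁻¹ * (s * p * s⁻¹) = (p' : Cw ⧸ Z)⁻¹ * (s * p' * s⁻¹) := congrArg Subtype.val h
      refine Subtype.ext (mul_inv_eq_one.mp (hfree _ (U.mul_mem p.2 (U.inv_mem p'.2)) ?_))
      show (p : Cw ⧸ Z) * (p' : Cw ⧸ Z)⁻¹ * s = s * ((p : Cw ⧸ Z) * (p' : Cw ⧸ Z)⁻¹)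
      calc (p : Cw ⧸ Z) * (p' : Cw ⧸ Z)⁻¹ * s
          = (p : Cw ⧸ Z) * ((p' : Cw ⧸ Z)⁻¹ * (s * p' * s⁻¹)) * s * (p' : Cw ⧸ Z)⁻¹ := by group
        _ = (p : Cw ⧸ Z) * ((p : Cw ⧸ Z)⁻¹ * (s * p * s⁻¹)) * s * (p' : Cw ⧸ Z)⁻¹ := by rw [h']
        _ = _ := by group
    obtain ⟨p, hp⟩ := (Finite.injective_iff_surjective.mp hf) ⟨r, hr⟩
    have hp' : (p : Cw ⧸ Z)⁻¹ * (s * p * s⁻¹) = r := congrArg Subtype.val hp
    rw [← hp', hsi]
    simp only [mul_inv_rev, inv_inv, hsi]
    simp only [mul_assoc, hs, mul_one]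
  have htU := hinv t htt hCt
  have inU : ∀ v : Cw, Odd (orderOf (v : G)) → d * (v : G) * d = (v : G)⁻¹ → ρ v ∈ U := by
    intro v ⟨k, hk⟩ hv
    have h2 : ρ v * ρ v ∈ U := by
      have h := U.inv_mem (hz (ρ v))
      have e1 : t * ρ v * t⁻¹ = (ρ v)⁻¹ := by
        rw [inv_eq_of_mul_eq_one_right htt, ht, ← map_mul, ← map_mul, ← map_inv]
        exact congrArg ρ (Subtype.ext hv)
      rw [e1, mul_inv_rev, inv_inv] at h
      exact h
    have hp : ρ v = (ρ v * ρ v) ^ (k + 1) := by
      rw [← pow_two, ← pow_mul, show 2 * (k + 1) = (2 * k + 1) + 1 by ring, pow_succ, ← hk, ← map_pow,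
        show v ^ orderOf (v : G) = 1 from Subtype.ext (pow_orderOf_eq_one (v : G)), map_one, one_mul]
    rw [hp]; exact U.pow_mem h2 _
  refine ⟨fun v hvo hvw hvd b hb => ?_, fun g hg => ?_⟩
  · have hbW : b ∈ Cw := Subgroup.mem_centralizer_singleton_iff.mpr (hb.1.2.2.symm.mul_right hb.2.2.2.symm).eq
    let bw : Cw := ⟨b, hbW⟩
    let v' : Cw := ⟨v, Subgroup.mem_centralizer_singleton_iff.mpr hvw.eq⟩
    have hfree : ∀ r ∈ U, Commute r (ρ bw) → r = 1 := by
      intro r hr hrb
      obtain ⟨u, rfl, hun⟩ := hlift r hr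
      have hn := hUodd _ hr
      have hbΔ := step_mem hd d_mem hb.1.1 hb.1.2.2
      have hub : Commute (u : G) b := by
        have h := hrb.eq
        rw [← map_mul, ← map_mul, hρ] at h
        have e1 : b * (u : G) * b⁻¹ = u ∨ b * (u : G) * b⁻¹ = u * w := by
          have hbw : Commute b w := hcw bw
          rcases h with h | h
          · left; rw [← show (u : G) * b = b * u from h, mul_inv_cancel_right]
          · right
            rw [mul_inv_eq_iff_eq_mul, mul_assoc, ← hbw.eq, ← mul_assoc,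
              show (u : G) * b = b * u * w from h, mul_assoc _ w w, hw2, mul_one]
        exact (mul_inv_eq_iff_eq_mul.mp (odd_exact X hd hn hw2
          (by rw [conj_pow, hun]; group) hun (hcw u) e1)).symm
      have huK : (u : G) ∈ Grp D d := cent_le X.loc hd hbΔ (Subgroup.mem_centralizer_singleton_iff.mpr hub.eq)
      have e2 : d * (u : G) * d = (u : G)⁻¹ := by
        have h := htU _ hr
        rw [ht, ← map_mul, ← map_mul, ← map_inv, hρ] at h
        refine odd_exact X hd hn hw2 ?_ (by rw [inv_pow, hun, inv_one]) (hcw u).inv_left h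
        conv_lhs => arg 1; arg 2; rw [← inv1 X hd hd]
        rw [conj_pow, hun]; group
      rcases conj_cases X hd he (hcw u) (grp_stab X.loc hd huK d_mem) with h | h
      · refine hCt _ hr ?_
        exact (show Commute u dw from Subtype.ext (mul_inv_eq_iff_eq_mul.mp h)).map ρ
      · refine hCt _ hr ?_
        show ρ u * t = t * ρ u
        rw [ht, ← map_mul, ← map_mul, hρ]
        right
        show (u : G) * d = d * u * w
        rw [mul_inv_eq_iff_eq_mul] at h
        rw [h, mul_assoc, (hcw u).eq, hwdef, ← mul_assoc, ← mul_assoc, sq1 X hd hd, one_mul]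
    have hsq : ρ bw * ρ bw = 1 := by
      rw [← map_mul, ← map_one ρ]; exact congrArg ρ (Subtype.ext (sq1 X hd hb.1.1))
    have h := hinv (ρ bw) hsq hfree _ (inU v' hvo hvd)
    rw [← map_mul, ← map_mul, ← map_inv, hρ] at h
    refine odd_exact X hd hvo hw2 ?_ (by rw [inv_pow, pow_orderOf_eq_one, inv_one]) hvw.inv_left h
    show (b * v * b) ^ _ = 1
    conv_lhs => arg 1; arg 2; rw [← inv1 X hd hb.1.1]
    rw [conj_pow, pow_orderOf_eq_one]; group
  · let g' : Cw := ⟨g, Subgroup.mem_centralizer_singleton_iff.mpr hg.eq⟩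
    have hc := hz (ρ g')
    obtain ⟨v, hv, hvn⟩ := hlift _ hc
    have hn := hUodd _ hc
    refine ⟨v, Odd.of_dvd_nat hn (orderOf_dvd_of_pow_eq_one hvn), hcw v, ?_, fun hv1 => ?_⟩
    · have h := htU _ hc
      rw [← hv, ht, ← map_mul, ← map_mul, ← map_inv, hρ] at h
      refine odd_exact X hd hn hw2 ?_ (by rw [inv_pow, hvn, inv_one]) (hcw v).inv_left h
      show (d * (v : G) * d) ^ _ = 1
      conv_lhs => arg 1; arg 2; rw [← inv1 X hd hd]
      rw [conj_pow, hvn]; group
    · rw [show v = 1 from Subtype.ext hv1, map_one] at hv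
      have hv' := hv.symm
      rw [ht, ← map_inv, ← map_inv, ← map_mul, ← map_mul, ← map_mul, ← map_one ρ, hρ] at hv'
      refine mem_grp_of_conj X.loc hd ?_
      rcases hv' with h | h
      · have e1 : g * d * g⁻¹ = d := by
          have h' : d * g * d⁻¹ * g⁻¹ = 1 := h
          rw [inv1 X hd hd] at h'
          calc g * d * g⁻¹ = d * (d * g * d * g⁻¹) := by rw [show d * (d * g * d * g⁻¹) = d * d * (g * d * g⁻¹) by simp only [mul_assoc], sq1 X hd hd, one_mul]
            _ = d := by rw [h', mul_one]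
        rw [e1]; exact d_mem
      · have e1 : g * d * g⁻¹ = e := by
          have h' : d * g * d⁻¹ * g⁻¹ = 1 * w := h
          rw [inv1 X hd hd, one_mul] at h'
          calc g * d * g⁻¹ = d * (d * g * d * g⁻¹) := by rw [show d * (d * g * d * g⁻¹) = d * d * (g * d * g⁻¹) by simp only [mul_assoc], sq1 X hd hd, one_mul]
            _ = e := by rw [h', hwdef, ← mul_assoc, sq1 X hd hd, one_mul]
        rw [e1]; exact step_mem hd d_mem he.1 he.2.2

/-- the centraliser of a product of two commuting members -/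
theorem cent_pair {g : G} (hg : Commute g (d * e)) : g ∈ Grp D d := by
  obtain ⟨v, hvo, hvw, hvd, hv1⟩ := (odd_inverted X hd he).2 g hg
  refine hv1 ?_
  obtain ⟨C⟩ := X.loc.coord d hd
  have step : ∀ a ∈ nset D d, a * v * a = v⁻¹ → ∀ b ∈ nset D d ∩ nset D a, b * v * b = v⁻¹ := by
    intro a ha hav
    refine (odd_inverted X hd ha).1 v hvo ?_ hvd
    show v * (d * a) = d * a * v
    calc v * (d * a) = v * d * a := (mul_assoc _ _ _).symm
      _ = d * v⁻¹ * a := by
          rw [← hvd, show d * (d * v * d) * a = (d * d) * v * (d * a) by simp only [mul_assoc], sq1 X hd hd, one_mul, mul_assoc]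
      _ = d * (a * v * a) * a := by rw [hav]
      _ = d * a * v * (a * a) := by simp only [mul_assoc]
      _ = d * a * v := by rw [sq1 X hd ha.1, mul_one]
  have he' : e * v * e = v⁻¹ := by
    rw [show e = d * (d * e) by rw [← mul_assoc, sq1 X hd hd, one_mul]]
    calc d * (d * e) * v * (d * (d * e)) = d * ((d * e) * v) * d * (d * e) := by simp only [mul_assoc]
      _ = d * v * ((d * e) * d) * (d * e) := by rw [← hvw.eq]; simp only [mul_assoc]
      _ = d * v * d * ((d * e) * (d * e)) := by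
          rw [(w_facts X hd he).2.2.2.symm.eq]; simp only [mul_assoc]
      _ = v⁻¹ := by rw [(w_facts X hd he).1, mul_one, hvd]
  have hall : ∀ a ∈ nset D d, a * v * a = v⁻¹ := by
    intro a ha
    by_cases hae : a = e
    · rw [hae]; exact he'
    by_cases hca : Commute e a
    · exact step e he he' a ⟨ha, ha.1, hae, hca⟩
    obtain ⟨ia, hia, eia⟩ := mb_surj C ha
    obtain ⟨ie, hie, eie⟩ := mb_surj C he
    obtain ⟨w1, hw1, e1⟩ := Pts.from_first hie
    have hr := below_rev hw1
    have hg0 : gpt 0 < 693 := gpt_lt (by norm_num)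
    have ha' := pev_lt hr hia
    have hno : orth (gpt 0) (pev w1.reverse ia) = false := by
      rw [← orth_pev hw1 hg0 ha', e1, pev_rev' hw1 hia]
      exact Bool.eq_false_iff.mpr fun h => hca (by rw [← eie, ← eia]; exact (mb_comm C hie hia).mpr h)
    have hk := all_range (p := linkOK) link0 (Nat.zero_le _)
      (show pev w1.reverse ia < 0 + 693 by rw [Nat.zero_add]; exact ha')
    simp only [linkOK, hno, Bool.false_or, List.any_eq_true, List.mem_range, Bool.and_eq_true,
      Bool.not_eq_true'] at hk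
    obtain ⟨z, hz, ⟨⟨o1, o2⟩, n1⟩, n2⟩ := hk
    have hzl := pev_lt hw1 hz
    set m := mb C (pev w1 z)
    have c1 : Commute e m := by
      rw [← eie]; exact (mb_comm C hie hzl).mpr (by rw [← e1, orth_pev hw1 hg0 hz]; exact o1)
    have c2 : Commute m a := by
      rw [← eia]; exact (mb_comm C hzl hia).mpr (by rw [← pev_rev' hw1 hia, orth_pev hw1 hz ha']; exact o2)
    have hme : m ≠ e := fun h => hca (h ▸ c2)
    have hma : m ≠ a := fun h => hca (h ▸ c1)
    exact step m (mb_mem C hzl) (step e he he' m ⟨mb_mem C hzl, (mb_mem C hzl).1, hme, c1⟩) a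
      ⟨ha, ha.1, Ne.symm hma, c2⟩
  have hstab : ∀ c ∈ Subgroup.centralizer ({d} : Set G), c * v * c⁻¹ = v ∨ c * v * c⁻¹ = v⁻¹ := by
    intro c hc
    rw [← X.loc.gen d hd] at hc
    induction hc using Subgroup.closure_induction with
    | mem y hy => right; rw [inv1 X hd hy.1]; exact hall y hy
    | one => left; group
    | mul a b _ _ ia ib =>
      rw [show a * b * v * (a * b)⁻¹ = a * (b * v * b⁻¹) * a⁻¹ by group]
      rcases ib with h | h <;> rw [h]
      · exact ia
      · rw [show a * v⁻¹ * a⁻¹ = (a * v * a⁻¹)⁻¹ by group]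
        rcases ia with h' | h' <;> rw [h']
        · exact Or.inr rfl
        · exact Or.inl (inv_inv v)
    | inv a _ ia =>
      rcases ia with h | h
      · left; rw [inv_inv]; nth_rewrite 1 [← h]; group
      · right; rw [inv_inv]
        calc a⁻¹ * v * a = (a⁻¹ * v⁻¹ * a)⁻¹ := by group
          _ = (a⁻¹ * (a * v * a⁻¹) * a)⁻¹ := by rw [h]
          _ = v⁻¹ := by group
  have hcomm : Subgroup.centralizer ({d} : Set G) ≤ Subgroup.centralizer ({v} : Set G) := by
    rw [← X.perf d hd, Subgroup.commutator_le]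
    intro p hp q hq
    rw [Subgroup.mem_centralizer_singleton_iff]
    refine (mul_inv_eq_iff_eq_mul (a := ⁅p, q⁆ * v) (b := ⁅p, q⁆) (c := v)).mp ?_
    rw [commutatorElement_def]
    calc p * q * p⁻¹ * q⁻¹ * v * (p * q * p⁻¹ * q⁻¹)⁻¹
        = p * (q * (p⁻¹ * (q⁻¹ * v * q) * p) * q⁻¹) * p⁻¹ := by group
      _ = v := by
        rcases conj_signs (hstab p hp) with ⟨a1, a2, a3, a4⟩ | ⟨a1, a2, a3, a4⟩ <;>
          rcases conj_signs (hstab q hq) with ⟨b1, b2, b3, b4⟩ | ⟨b1, b2, b3, b4⟩
        · rw [b3, a3, b1, a1]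
        · rw [b3, a4, b2, a1]
        · rw [b3, a3, b2, a2]
        · rw [b3, a4, b1, a2]
  have hdv : Commute d v := Subgroup.mem_centralizer_singleton_iff.mp
    (hcomm (Subgroup.mem_centralizer_singleton_iff.mpr rfl))
  refine odd_square hvo (pow_orderOf_eq_one v) ?_
  rw [← hvd, hdv.eq, mul_assoc, sq1 X hd hd, mul_one]

end Cfsg.Agent.Spor.CentU62
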