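import Cfsg.Agent.Lib.Spor.CentU62.Coords

/-!
Four points in a path and a fifth orthogonal to them extend to six points in a path.
-/

set_option autoImplicit false
set_option maxRecDepth 100000
set_option linter.unusedSectionVars false

namespace Cfsg.Agent.Spor.CentU62

open Cfsg.Agent.Small.Unitary Cfsg.Agent.Spor.SpFour
open Cfsg.Agent.Spor.M22U
open Cfsg.Agent.Spor.M22U.Invol (V6)

theorem sixth_vec (g0 g1 g2 g3 a : V6) (i0 : herm g0 g0 = 0) (i1 : herm g1 g1 = 0) (i2 : herm g2 g2 = 0)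
    (i3 : herm g3 g3 = 0) (ia : herm a a = 0) (ha : a ≠ 0)
    (h02 : herm g0 g2 = 0) (h03 : herm g0 g3 = 0) (h13 : herm g1 g3 = 0)
    (h01 : herm g0 g1 ≠ 0) (h12 : herm g1 g2 ≠ 0) (h23 : herm g2 g3 ≠ 0)
    (a0 : herm g0 a = 0) (a1 : herm g1 a = 0) (a2 : herm g2 a = 0) (a3 : herm g3 a = 0) :
    ∃ w : V6, herm w w = 0 ∧ herm g0 w = 0 ∧ herm g1 w = 0 ∧ herm g2 w = 0 ∧ herm g3 w ≠ 0 ∧
      herm a w ≠ 0 := by
  have sw : ∀ u v : V6, herm u v = 0 → herm v u = 0 := fun u v h => by rw [← star_herm, h, star_zero]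
  have sn : ∀ u v : V6, herm u v ≠ 0 → herm v u ≠ 0 := fun u v h e => h (sw v u e)
  obtain ⟨z, hz⟩ : ∃ z, herm a z ≠ 0 := by
    obtain ⟨i, hi⟩ : ∃ i, a i ≠ 0 := Function.ne_iff.mp ha
    exact ⟨Pi.single i 1, by rw [herm_single_right, mul_one]; exact star_ne_zero.mpr hi⟩
  set z0 := herm g0 z
  set z1 := herm g1 z
  set z2 := herm g2 z
  set z3 := herm g3 z
  set c1 := z0 / herm g0 g1
  set c2 := (z3 + 1) / herm g3 g2
  set c0 := (z1 + herm g1 g2 * c2) / herm g1 g0
  set c3 := (z2 + herm g2 g1 * c1) / herm g2 g3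
  set w := z + c0 • g0 + c1 • g1 + c2 • g2 + c3 • g3 with hw
  have hh : ∀ u : V6, herm u w =
      herm u z + c0 * herm u g0 + c1 * herm u g1 + c2 * herm u g2 + c3 * herm u g3 := fun u => by
    simp only [hw, herm_add_right, herm_smul_right]
  have h32 := sn _ _ h23
  have h10 := sn _ _ h01
  have e0 : herm g0 w = 0 := by
    rw [hh, i0, h02, h03, show c1 * herm g0 g1 = z0 from div_mul_cancel₀ _ h01]
    simp [z0, CharTwo.add_self_eq_zero]
  have e1 : herm g1 w = 0 := by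
    rw [hh, i1, h13, show c0 * herm g1 g0 = z1 + herm g1 g2 * c2 from div_mul_cancel₀ _ h10]
    simp only [z1, mul_zero, add_zero, mul_comm (herm g1 g2)]
    linear_combination (CharTwo.add_self_eq_zero (herm g1 z)) + (CharTwo.add_self_eq_zero (c2 * herm g1 g2))
  have e2 : herm g2 w = 0 := by
    rw [hh, sw _ _ h02, i2, show c3 * herm g2 g3 = z2 + herm g2 g1 * c1 from div_mul_cancel₀ _ h23]
    simp only [z2, mul_zero, add_zero, mul_comm (herm g2 g1)]
    linear_combination (CharTwo.add_self_eq_zero (herm g2 z)) + (CharTwo.add_self_eq_zero (c1 * herm g2 g1))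
  have e3 : herm g3 w = 1 := by
    rw [hh, sw _ _ h03, sw _ _ h13, i3, show c2 * herm g3 g2 = z3 + 1 from div_mul_cancel₀ _ h32]
    simp only [z3, mul_zero, add_zero]
    linear_combination CharTwo.add_self_eq_zero (herm g3 z)
  have ea : herm a w = herm a z := by
    rw [hh, sw _ _ a0, sw _ _ a1, sw _ _ a2, sw _ _ a3]; ring
  have haw : herm a w ≠ 0 := by rw [ea]; exact hz
  have hwa : herm w a ≠ 0 := sn _ _ haw
  obtain ⟨α, hα⟩ := Invol.f4_facts (herm w w) (star_herm w w)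
  set t := α / herm w a
  refine ⟨w + t • a, ?_, ?_, ?_, ?_, ?_, ?_⟩
  · simp only [herm_add_left, herm_add_right, herm_smul_left, herm_smul_right, ia, mul_zero, add_zero]
    have ht : t * herm w a = α := div_mul_cancel₀ _ hwa
    have ht' : star t * herm a w = star α := by
      rw [← ht, star_mul', star_herm]
    rw [ht, ht']
    linear_combination hα
  all_goals simp only [herm_add_right, herm_smul_right, a0, a1, a2, a3, ia, mul_zero, add_zero]
  exacts [e0, e1, e2, (by rw [e3]; exact one_ne_zero), haw]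

theorem sixth {p0 p1 p2 p3 ia : ℕ} (h0 : p0 < 693) (h1 : p1 < 693) (h2 : p2 < 693) (h3 : p3 < 693)
    (ha : ia < 693) (o02 : orth p0 p2 = true) (o03 : orth p0 p3 = true) (o13 : orth p1 p3 = true)
    (o01 : orth p0 p1 = false) (o12 : orth p1 p2 = false) (o23 : orth p2 p3 = false)
    (oa0 : orth p0 ia = true) (oa1 : orth p1 ia = true) (oa2 : orth p2 ia = true) (oa3 : orth p3 ia = true) :
    ∃ q < 693, orth p0 q = true ∧ orth p1 q = true ∧ orth p2 q = true ∧ orth p3 q = false ∧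
      orth ia q = false := by
  have yes : ∀ {u v : ℕ}, u < 693 → v < 693 → orth u v = true → herm (Pts.gv u) (Pts.gv v) = 0 :=
    fun hu hv h => (orth_herm hu hv).mp h
  have no : ∀ {u v : ℕ}, u < 693 → v < 693 → orth u v = false → herm (Pts.gv u) (Pts.gv v) ≠ 0 :=
    fun hu hv h e => by rw [(orth_herm hu hv).mpr e] at h; exact Bool.noConfusion h
  have iso : ∀ {u : ℕ}, u < 693 → herm (Pts.gv u) (Pts.gv u) = 0 := fun hu => (Pts.gv_spec hu).2
  obtain ⟨w, ww, w0, w1, w2, w3, wa⟩ := sixth_vec (Pts.gv p0) (Pts.gv p1) (Pts.gv p2) (Pts.gv p3) (Pts.gv ia)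
    (iso h0) (iso h1) (iso h2) (iso h3) (iso ha) (Pts.gv_spec ha).1 (yes h0 h2 o02) (yes h0 h3 o03)
    (yes h1 h3 o13) (no h0 h1 o01) (no h1 h2 o12) (no h2 h3 o23) (yes h0 ha oa0) (yes h1 ha oa1)
    (yes h2 ha oa2) (yes h3 ha oa3)
  have hw0 : w ≠ 0 := fun e => wa (by rw [e]; simp [herm])
  obtain ⟨hq, c, hc, he⟩ := SUSix.exists_pt w hw0 ww
  refine ⟨_, hq, ?_⟩
  set q := SUSix.idx (SUSix.code w)
  have key : ∀ {u : ℕ}, u < 693 → (orth u q = true ↔ herm (Pts.gv u) w = 0) := fun hu => by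
    rw [orth_herm hu hq, he, herm_smul_right, mul_eq_zero]
    exact ⟨Or.inr, fun h => h.resolve_left hc⟩
  refine ⟨(key h0).mpr w0, (key h1).mpr w1, (key h2).mpr w2, ?_, ?_⟩
  · exact Bool.eq_false_iff.mpr fun h => w3 ((key h3).mp h)
  · exact Bool.eq_false_iff.mpr fun h => wa ((key ha).mp h)

end Cfsg.Agent.Spor.CentU62
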