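import Cfsg.Agent.Lib.Spor.CentU62.Comp
import Cfsg.Agent.Lib.Spor.CentU62.BetaChecks
import Cfsg.Agent.Lib.Spor.M22URefl
import Cfsg.Agent.Lib.Fischer.Transitive
import Cfsg.Agent.Lib.Solv.Cores

/-!
The group of the component is of type M(22) and acts primitively on it.
-/

set_option autoImplicit false
set_option maxRecDepth 100000
set_option linter.unusedSectionVars false

namespace Cfsg.Agent.Spor.CentU62

open Cfsg.Agent.Spor.M22U
open Cfsg.Agent.Spor.SpFour (F4)
open Cfsg.Agent.Spor.M22U.Norm (Coord)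
open Cfsg.Agent.Spor.CC (all_range)

universe u
variable {G : Type u} [Group G] {D : Set G} (L : Loc D) {d : G} (hd : d ∈ D)

theorem beta_spec {a : ℕ} (ha : a < 126) : beta a < 693 ∧ inT0 (beta a) = true ∧
    ∀ i < 126, tm (beta a) (beta i) = beta (Refl.rim a i) := by
  have h := all_range (p := betaOK) beta_ok0 (Nat.zero_le _) (show a < 0 + 126 by omega)
  simp only [betaOK, Bool.and_eq_true, blt_iff, List.all_eq_true, List.mem_range, beq_iff] at h
  exact ⟨h.1.1, h.1.2, h.2⟩

theorem beta_inj {a b : ℕ} (ha : a < 126) (hb : b < 126) (h : beta a = beta b) : a = b :=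
  List.inj_on_of_nodup_map (nodupN_iff.mp beta_inj0.1) (List.mem_range.mpr ha) (List.mem_range.mpr hb) h

theorem beta_surj {z : ℕ} (hz : z < 693) (h : inT0 z = true) : ∃ a < 126, beta a = z := by
  have := List.all_eq_true.mp beta_inj0.2 z (List.mem_range.mpr hz)
  simp only [h, Bool.not_true, Bool.false_or, memN_iff, List.mem_map, List.mem_range] at this
  exact this

theorem range_gen :
    Refl.rho.range = Subgroup.closure (Set.range fun a : Fin 126 => Refl.rho (Refl.rfl' a)) := by
  refine le_antisymm ?_ ((Subgroup.closure_le _).mpr (by rintro _ ⟨a, rfl⟩; exact ⟨_, rfl⟩))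
  rintro _ ⟨g, rfl⟩
  have hg : g ∈ Subgroup.closure ((↑) ⁻¹' Cfsg.reflectionsOfNorm (⇑Forms.Q0) (1 : ZMod 3) : Set Refl.R0) := by
    rw [show Subgroup.closure ((↑) ⁻¹' Cfsg.reflectionsOfNorm (⇑Forms.Q0) (1 : ZMod 3) : Set Refl.R0) = ⊤
      from Subgroup.closure_closure_coe_preimage]
    exact Subgroup.mem_top _
  induction hg using Subgroup.closure_induction with
  | mem u hu =>
    obtain ⟨v, hv, rfl⟩ := ReflThree.exists_r hu
    have hv' := hv
    rw [Forms.Q0_eq] at hv'
    obtain ⟨hl, e⟩ := Refl.cases_vec v hv'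
    refine Subgroup.subset_closure ⟨⟨_, hl⟩, ?_⟩
    show Refl.rho (Refl.rfl' (Refl.pnt v)) = _
    rw [Refl.rfl', dif_pos hl]
    rcases e with e | e
    · exact congrArg Refl.rho (ReflThree.r_congr e.symm _ _)
    · exact congrArg Refl.rho ((ReflThree.r_neg (Refl.pv_value hl) (e ▸ hv)).symm.trans
        (ReflThree.r_congr e.symm _ _))
  | one => rw [map_one]; exact one_mem _
  | mul u v _ _ iu iv => rw [map_mul]; exact mul_mem iu iv
  | inv u _ iu => rw [map_inv]; exact inv_mem iu

theorem Q0_nondeg : (QuadraticMap.polarBilin Forms.Q0).Nondegenerate :=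
  Cfsg.Agent.Classical.ORefl.nondeg Refl.hQ

theorem gram_det : (Matrix.of fun i j : Fin 6 =>
    QuadraticMap.polar Forms.q0 (Pi.single i 1) (Pi.single j 1)).det = (1 : ZMod 3) := by
  have e : (Matrix.of fun i j : Fin 6 => QuadraticMap.polar Forms.q0 (Pi.single i (1 : ZMod 3)) (Pi.single j 1)) =
      Matrix.diagonal fun _ : Fin 6 => (2 : ZMod 3) := by decide +kernel
  rw [e, Matrix.det_diagonal]
  decide +kernel

theorem Q0_disc : Cfsg.polarGramDet (⇑Forms.Q0) = 1 := by rw [Forms.Q0_eq]; exact gram_det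

/-- the subgroup of the members commuting with two members which do not commute -/
theorem refl_part {H : Type*} [Group H] {E : Set H} (hE : ∀ g : H, ∀ y ∈ E, g * y * g⁻¹ ∈ E)
    {p x : H} (π : Fin 126 → H)
    (hπ : Function.Injective π) (hset : Set.range π = nset E p ∩ nset E x)
    (hact : ∀ a i : Fin 126, ∀ hr : Refl.rim a i < 126, π a * π i * (π a)⁻¹ = π ⟨Refl.rim a i, hr⟩) :
    Cfsg.IsProjReflectionGroupModThree
      (↥(Subgroup.closure (nset E p ∩ nset E x)) ⧸
        Subgroup.center ↥(Subgroup.closure (nset E p ∩ nset E x))) 6 1 1 := by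
  rw [← hset]
  set Lg := Subgroup.closure (Set.range π)
  have hinv : ∀ g ∈ Lg, ∀ i, ∃ j, g * π i * g⁻¹ = π j := by
    intro g hg i
    have key : g * π i * g⁻¹ ∈ Set.range π := by
      induction hg using Subgroup.closure_induction generalizing i with
      | mem u hu =>
        obtain ⟨a, rfl⟩ := hu
        exact ⟨⟨_, Refl.rim_lt a.2 i.2⟩, (hact a i _).symm⟩
      | one => exact ⟨i, by group⟩
      | mul u v _ _ iu iv =>
        obtain ⟨j, hj⟩ := iv i
        obtain ⟨k, hk⟩ := iu j
        exact ⟨k, by rw [hk, hj]; group⟩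
      | inv u _ iu =>
        choose f hf using iu
        have hfi : Function.Injective f := fun r s h => hπ (by
          have e : u * π r * u⁻¹ = u * π s * u⁻¹ := by rw [← hf r, ← hf s, h]
          exact mul_left_cancel (mul_right_cancel e))
        obtain ⟨r, hr⟩ := (Finite.injective_iff_surjective.mp hfi) i
        exact ⟨r, by rw [← hr, hf r]; group⟩
    obtain ⟨j, hj⟩ := key
    exact ⟨j, hj.symm⟩
  choose σ hσ using hinv
  have hmul : ∀ (g h : H) (hg : g ∈ Lg) (hh : h ∈ Lg) i,
      σ (g * h) (mul_mem hg hh) i = σ g hg (σ h hh i) := by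
    intro g h hg hh i
    apply hπ
    rw [← hσ, ← hσ, ← hσ]; group
  have hone : ∀ i, σ 1 (one_mem _) i = i := fun i => hπ (by rw [← hσ]; group)
  let act : Lg →* Equiv.Perm (Fin 126) :=
    MonoidHom.mk' (fun g =>
      { toFun := σ g g.2
        invFun := σ (g : H)⁻¹ (inv_mem g.2)
        left_inv := fun i => hπ (by rw [← hσ, ← hσ]; group)
        right_inv := fun i => hπ (by rw [← hσ, ← hσ]; group) })
      (fun g h => Equiv.ext fun i => hmul g h g.2 h.2 i)
  have hker : act.ker = Subgroup.center Lg := by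
    ext g
    rw [MonoidHom.mem_ker, Subgroup.mem_center_iff]
    constructor
    · intro hg
      have hle : Lg ≤ Subgroup.centralizer ({(g : H)} : Set H) := by
        rw [Subgroup.closure_le]
        rintro _ ⟨i, rfl⟩
        rw [SetLike.mem_coe, Subgroup.mem_centralizer_singleton_iff]
        have e : σ (g : H) g.2 i = i := congrArg (fun p : Equiv.Perm (Fin 126) => p i) hg
        have h := hσ (g : H) g.2 i
        rw [e, mul_inv_eq_iff_eq_mul] at h
        exact h.symm
      intro h
      exact Subtype.ext (Subgroup.mem_centralizer_singleton_iff.mp (hle h.2))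
    · intro hg
      refine Equiv.ext fun i => hπ ?_
      show π (σ (g : H) g.2 i) = π i
      rw [← hσ, mul_inv_eq_iff_eq_mul]
      exact (congrArg Subtype.val (hg ⟨π i, Subgroup.subset_closure ⟨i, rfl⟩⟩)).symm
  have hgen : ∀ a : Fin 126, act ⟨π a, Subgroup.subset_closure ⟨a, rfl⟩⟩ = Refl.rho (Refl.rfl' a) := by
    intro a
    refine Equiv.ext fun i => hπ ?_
    show π (σ (π a) _ i) = _
    rw [← hσ, hact a i (Refl.rim_lt a.2 i.2)]
    exact congrArg π (Fin.ext (Refl.rho_rfl a.2 i).symm)
  have hrange : act.range = Refl.rho.range := by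
    rw [range_gen, MonoidHom.range_eq_map,
      show (⊤ : Subgroup Lg) = Subgroup.closure ((↑) ⁻¹' Set.range π) from
        Subgroup.closure_closure_coe_preimage.symm, MonoidHom.map_closure]
    congr 1
    ext s
    constructor
    · rintro ⟨⟨_, _⟩, ⟨a, rfl⟩, rfl⟩
      exact ⟨a, (hgen a).symm⟩
    · rintro ⟨a, rfl⟩
      exact ⟨⟨π a, Subgroup.subset_closure ⟨a, rfl⟩⟩, ⟨a, rfl⟩, hgen a⟩
  refine ⟨Forms.Q0, Q0_nondeg, Q0_disc, ⟨?_⟩⟩
  exact (QuotientGroup.quotientMulEquivOfEq hker.symm).trans ((QuotientGroup.quotientKerEquivRange act).trans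
    ((MulEquiv.subgroupCongr hrange).trans ((QuotientGroup.quotientKerEquivRange Refl.rho).symm.trans
      (QuotientGroup.quotientMulEquivOfEq Refl.ker_rho))))

include L hd in
theorem dk_prim [Finite G] : Cfsg.IsPrimitiveUnderConj (DK D d) := by
  obtain ⟨e, he⟩ := iso_fi22 L hd
  haveI : IsSimpleGroup (Grp D d) := e.isSimpleGroup_congr.mp Fi22Cert.simple
  obtain ⟨a, x, -, hx, hnc⟩ := exists_far L hd
  have hne : dd D d ≠ ⟨x, Subgroup.subset_closure hx⟩ := fun h =>
    hnc (by
      have e : d = x := congrArg Subtype.val h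
      rw [← e])
  have hD2 : ∃ u ∈ DK D d, ∃ v ∈ DK D d, u ≠ v := ⟨dd D d, d_mem, _, hx, hne⟩
  have hcl : Cfsg.IsThreeTranspositionClass (DK D d) := by
    refine ⟨(dk_three L hd).1, ⟨dd D d, d_mem, ?_⟩, (dk_three L hd).2.2⟩
    ext y
    constructor
    · intro hy; exact isConj_iff.mpr (dk_trans L hd _ d_mem y hy)
    · intro hy
      obtain ⟨g, rfl⟩ := isConj_iff.mp hy
      exact (dk_three L hd).2.1 g _ d_mem
  have hQ : commutator (Grp D d) = ⊤ := by
    rcases (inferInstance : (commutator (Grp D d)).Normal).eq_bot_or_eq_top with h | h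
    · exfalso
      apply hnc
      rw [commutator_def, Subgroup.commutator_eq_bot_iff_le_centralizer] at h
      have := h (Subgroup.mem_top (dd D d))
      rw [Subgroup.mem_centralizer_iff] at this
      exact (congrArg Subtype.val (this ⟨x, Subgroup.subset_closure hx⟩ (Subgroup.mem_top _))).symm
    · exact h
  haveI : Fact (Nat.Prime 2) := ⟨Nat.prime_two⟩
  haveI : Fact (Nat.Prime 3) := ⟨Nat.prime_three⟩
  have hcore : ∀ p : ℕ, [Fact p.Prime] → Cfsg.pCore p (Grp D d) ≤ Subgroup.center (Grp D d) := by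
    intro p _
    haveI := Solv.pCore_normal (G := Grp D d) p
    rcases (inferInstance : (Cfsg.pCore p (Grp D d)).Normal).eq_bot_or_eq_top with h | h
    · rw [h]; exact bot_le
    · haveI : Group.IsNilpotent (Grp D d) := by
        have hp : IsPGroup p (Grp D d) := by
          have := Solv.pCore_isPGroup (G := Grp D d) p
          rw [h] at this
          exact this.of_equiv Subgroup.topEquiv
        exact hp.isNilpotent
      have hcomm := IsSimpleGroup.comm_iff_isSolvable.mpr (inferInstance : Group.IsSolvable (Grp D d))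
      intro z _
      exact Subgroup.mem_center_iff.mpr fun g => hcomm g z
  exact (Fischer.primitive hcl hD2 (hcore 2) (hcore 3) (by rw [hQ, ← commutator_def, hQ])).1

include L hd in
theorem dk_type [Finite G]
    (hq : Nonempty (↥(Subgroup.centralizer ({d} : Set G)) ⧸
      Subgroup.center ↥(Subgroup.centralizer ({d} : Set G)) ≃* Cfsg.PSU 6 F4 2)) :
    Cfsg.IsOfTypeM22 (Grp D d) (DK D d) := by
  obtain ⟨a, x, ha, hx, hnc⟩ := exists_far L hd
  obtain ⟨C, -, hT⟩ := normal L hd (delta_sub hd hx) ha hnc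
  refine ⟨dk_center L hd, dd D d, d_mem, ⟨x, Subgroup.subset_closure hx⟩, hx,
    fun h => hnc (congrArg Subtype.val h.eq), ?_, 1, one_ne_zero, ?_⟩
  · obtain ⟨φ⟩ := hq
    refine ⟨F4, inferInstance, inferInstance, F4.card, ⟨?_⟩⟩
    set Cd := Subgroup.centralizer ({d} : Set G)
    set S := Subgroup.closure (nset (DK D d) (dd D d))
    have hmap : S.map (Grp D d).subtype = Cd := by
      rw [MonoidHom.map_closure, show Cd = Subgroup.closure (nset D d) from (L.gen d hd).symm]
      congr 1
      ext y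
      constructor
      · rintro ⟨v, hv, rfl⟩
        exact (nsetEquiv hd ⟨v, hv⟩).2
      · intro hy
        exact ⟨_, ((nsetEquiv hd).symm ⟨y, hy⟩).2, rfl⟩
    let f : S ≃* Cd := (Subgroup.equivMapOfInjective S (Grp D d).subtype Subtype.val_injective).trans
      (MulEquiv.subgroupCongr hmap)
    exact (QuotientGroup.congr _ _ f (by
      ext z
      simp only [Subgroup.mem_map, Subgroup.mem_center_iff]
      constructor
      · rintro ⟨u, hu, rfl⟩ v
        obtain ⟨v, rfl⟩ := f.surjective v
        show f v * f u = f u * f v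
        rw [← map_mul, ← map_mul, Subgroup.mem_center_iff.mp hu v]
      · intro hz
        refine ⟨f.symm z, Subgroup.mem_center_iff.mpr fun v => f.injective ?_, f.apply_symm_apply z⟩
        rw [map_mul, map_mul, f.apply_symm_apply, hz])).trans φ
  · have hin : ∀ i : Fin 126, mb C (beta i) ∈ nset D d ∩ nset D x := fun i =>
      ⟨mb_mem C (beta_spec i.2).1, (hT _ (beta_spec i.2).1).mpr (beta_spec i.2).2.1⟩
    let π : Fin 126 → Grp D d := fun i =>
      ⟨mb C (beta i), Subgroup.subset_closure (step_mem hd d_mem (hin i).1.1 (hin i).1.2.2)⟩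
    refine refl_part (dk_three L hd).2.1 π (fun i j h => Fin.ext (beta_inj i.2 j.2
      (mb_inj C (beta_spec i.2).1 (beta_spec j.2).1 (congrArg Subtype.val h)))) ?_ ?_
    · ext y
      constructor
      · rintro ⟨i, rfl⟩
        obtain ⟨⟨h1, h2, h3⟩, h4, h5, h6⟩ := hin i
        have hm := step_mem hd d_mem h1 h3
        exact ⟨⟨hm, fun e => h2 (congrArg Subtype.val e), Subtype.ext h3.eq⟩,
          hm, fun e => h5 (congrArg Subtype.val e), Subtype.ext h6.eq⟩
      · rintro ⟨hy, hyD, hyx, hxy⟩
        have hyd := (nsetEquiv hd ⟨y, hy⟩).2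
        obtain ⟨z, hz, ez⟩ := mb_surj C hyd
        have hyd' : (y : G) ∈ nset D x :=
          ⟨delta_sub hd hyD, fun e => hyx (Subtype.ext e), congrArg Subtype.val hxy.eq⟩
        have : mb C z = (y : G) := ez
        obtain ⟨i, hi, rfl⟩ := beta_surj hz ((hT z hz).mp (this ▸ hyd'))
        exact ⟨⟨i, hi⟩, Subtype.ext this⟩
    · intro a i hr
      apply Subtype.ext
      show mb C (beta a) * mb C (beta i) * (mb C (beta a))⁻¹ = mb C (beta (Refl.rim a i))
      rw [mb_conj C L (beta_spec a.2).1 (beta_spec i.2).1, (beta_spec a.2).2.2 i i.2]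

end Cfsg.Agent.Spor.CentU62
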